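import Cfsg.Agent.H190.Chev
import Cfsg.Agent.ChevalleyStructure.RootWord
import Cfsg.Agent.ChevalleyStructure.RootComb
set_option linter.all false

-- part: H186/ExcTorus
section
/-!
# Torus elements of order `ℓ` as vectors (helper186)

`val D x r = ∑ co(r,j) x_j`.  In the simply laced types the entry of a torus element at `r` is `∏ (ent at α_j)^co(r,j)`; a
torus element of order dividing `ℓ` is given by an integer vector.
-/

set_option autoImplicit false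

namespace Cfsg.Agent.H186

open Cfsg.Lie Cfsg.Agent.ChevalleyStructure Cfsg.Agent.ChevalleyStructure.Elts
  Cfsg.Agent.ChevalleyStructure.RootCombGood Cfsg.Agent.ChevalleyStructure.RootWord
  Cfsg.Agent.ChevalleyStructure.RootComb
  Cfsg.Agent.ChevalleyStructure.NPerm Cfsg.Agent.H190

universe u

/-- the value of the root `r` at the integer vector `x` (the values of the simple roots) -/
def val (D : ChevalleyDatum) (x : ℕ → ℤ) (r : ℕ) : ℤ := ∑ j ∈ Finset.range D.rank, co D r j * x j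

/-- the Cartan matrix is symmetric -/
def SL (D : ChevalleyDatum) : Prop := ∀ i < D.rank, ∀ j < D.rank, D.cartan i (D.simple j) = D.cartan j (D.simple i)

theorem slE7 : SL chevE7 := by
  unfold SL
  decide +kernel

theorem slE8 : SL chevE8 := by
  unfold SL
  decide +kernel

variable {D : ChevalleyDatum}

theorem car_simple_symm (G : Good D) (h : SL D) {s : ℕ} (hs : s < D.nroots) :
    ∀ i < D.rank, D.cartan i s = car D s (D.simple i) := by
  refine root_induction G (P := fun s => ∀ i < D.rank, D.cartan i s = car D s (D.simple i)) ?_ ?_ s hs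
  · intro j hj i hi
    rw [car_simple G hj, h i hi j hj]
  · intro k hk s hs ih i hi
    rw [G.cartan_reflect hk hs hi, car_reflect_left G hk hs, ih i hi, ih k hk, h k hk i hi]

theorem car_symm (G : Good D) (h : SL D) {r s : ℕ} (hr : r < D.nroots) (hs : s < D.nroots) :
    car D r s = car D s r := by
  refine root_induction G (P := fun r => ∀ s < D.nroots, car D r s = car D s r) ?_ ?_ r hr s hs
  · intro i hi s hs
    rw [car_simple G hi, car_simple_symm G h hs i hi]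
  · intro i hi r hr ih s hs
    have h1 := car_reflect G hi (G.reflect_lt hi hs) hr
    have h2 := car_reflect G hi hr (G.reflect_lt hi hs)
    rw [G.reflect_reflect hi hs] at h1 h2
    rw [h2, h1]
    exact ih _ (G.reflect_lt hi hs)

theorem cartan_eq_sum (G : Good D) (h : SL D) {s : ℕ} (hs : s < D.nroots) {i : ℕ} (hi : i < D.rank) :
    D.cartan i s = ∑ j ∈ Finset.range D.rank, co D s j * D.cartan i (D.simple j) := by
  rw [car_simple_symm G h hs i hi]
  unfold car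
  refine Finset.sum_congr rfl fun j hj => ?_
  rw [h j (Finset.mem_range.1 hj) i hi]

section Torus

variable {F : Type u} [Field F]

/-- the entry of a torus element at `s` in terms of the entries at the simple roots -/
theorem ent_eq_prod (hD : InList D) (h : SL D) {t : GL D.Idx F} (ht : t ∈ D.diagonalSubgroup F) (s : Fin D.nroots) :
    ent t s = ∏ j : Fin D.rank, (ent t ⟨D.simple j, (good_of_mem hD).simple_lt j.2⟩) ^ (co D s j) := by
  have G := good_of_mem hD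
  obtain ⟨c, hc, h1, -⟩ := torus_form hD ht
  rw [ent_of_dmat h1]
  simp_rw [ent_of_dmat h1]
  have e1 : ∀ i ∈ Finset.range D.rank, c i ^ D.cartan i s =
      ∏ j : Fin D.rank, (c i ^ D.cartan i (D.simple j)) ^ co D s j := by
    intro i hi
    rw [cartan_eq_sum G h s.2 (Finset.mem_range.1 hi), ← Fin.sum_univ_eq_sum_range
      (fun j => co D s j * D.cartan i (D.simple j))]
    have : ∀ (S : Finset (Fin D.rank)), c i ^ (∑ j ∈ S, co D s j * D.cartan i (D.simple j)) =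
        ∏ j ∈ S, (c i ^ D.cartan i (D.simple j)) ^ co D s j := by
      intro S
      classical
      induction S using Finset.induction_on with
      | empty => simp
      | insert a S ha ih =>
        rw [Finset.sum_insert ha, Finset.prod_insert ha, zpow_add₀ (hc i (Finset.mem_range.1 hi)), ih, mul_comm (co D s a),
          zpow_mul]
    exact this _
  rw [Finset.prod_congr rfl e1, Finset.prod_comm]
  refine Finset.prod_congr rfl fun j _ => ?_
  rw [← Finset.prod_zpow]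

/-- **toral elements of order dividing `ℓ` as vectors** -/
theorem exists_vec (hD : InList D) (h : SL D) {ℓ : ℕ} (hl : 0 < ℓ) {ζ : F} (hζ : IsPrimitiveRoot ζ ℓ)
    {t : GL D.Idx F} (ht : t ∈ D.diagonalSubgroup F) (htl : t ^ ℓ = 1) :
    ∃ x : ℕ → ℤ, ∀ s : Fin D.nroots, ent t s = ζ ^ (val D x s) := by
  have G := good_of_mem hD
  have : NeZero ℓ := ⟨hl.ne'⟩
  have hpow : ∀ s : Fin D.nroots, ent t s ^ ℓ = 1 := by
    intro s
    have h1 : ∀ m : ℕ, ent (t ^ m) s = ent t s ^ m := by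
      intro m
      induction m with
      | zero =>
        rw [pow_zero, pow_zero]
        show ((1 : GL D.Idx F) : Matrix D.Idx D.Idx F) (Sum.inr s) (Sum.inr s) = 1
        rw [Units.val_one, Matrix.one_apply_eq]
      | succ m ih =>
        rw [pow_succ, pow_succ, ent_mul hD (pow_mem ht m) ht, ih]
    rw [← h1, htl]
    show ((1 : GL D.Idx F) : Matrix D.Idx D.Idx F) (Sum.inr s) (Sum.inr s) = 1
    rw [Units.val_one, Matrix.one_apply_eq]
  have hex : ∀ j : Fin D.rank, ∃ k : ℕ, ent t ⟨D.simple j, G.simple_lt j.2⟩ = ζ ^ k := by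
    intro j
    obtain ⟨k, -, hk⟩ := hζ.eq_pow_of_pow_eq_one (hpow ⟨D.simple j, G.simple_lt j.2⟩)
    exact ⟨k, hk.symm⟩
  choose k hk using hex
  refine ⟨fun j => if hj : j < D.rank then (k ⟨j, hj⟩ : ℤ) else 0, fun s => ?_⟩
  rw [ent_eq_prod hD h ht]
  unfold val
  rw [← Fin.sum_univ_eq_sum_range (fun j => co D s j * if hj : j < D.rank then (k ⟨j, hj⟩ : ℤ) else 0)]
  have hζ0 : ζ ≠ 0 := hζ.ne_zero hl.ne'
  have : ∀ (S : Finset (Fin D.rank)), ζ ^ (∑ j ∈ S, co D s j * (if hj : (j : ℕ) < D.rank then (k ⟨j, hj⟩ : ℤ) else 0)) =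
      ∏ j ∈ S, (ent t ⟨D.simple j, G.simple_lt j.2⟩) ^ co D s j := by
    intro S
    classical
    induction S using Finset.induction_on with
    | empty => simp
    | insert a S ha ih =>
      rw [Finset.sum_insert ha, Finset.prod_insert ha, zpow_add₀ hζ0, ih, hk a, dif_pos a.2, mul_comm (co D s a), zpow_mul,
        zpow_natCast]
  exact (this _).symm

end Torus

end Cfsg.Agent.H186
end

-- part: H186/ExcAlcove
section
/-!
# Reduction of integer vectors to the fundamental alcove (helper186)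

`Rel D ℓ x y x' y'`: up to a permutation of the roots, the values of the roots at `(x, y)` and `(x', y')` agree modulo `ℓ`.
`reduce`: every pair `(x, y)` is related to a pair with `x'` dominant and `val x' θ ≤ ℓ`, `θ` the highest root.
-/

set_option autoImplicit false

namespace Cfsg.Agent.H186

open Cfsg.Lie Cfsg.Agent.ChevalleyStructure Cfsg.Agent.ChevalleyStructure.Elts
  Cfsg.Agent.ChevalleyStructure.RootCombGood Cfsg.Agent.ChevalleyStructure.RootWord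
  Cfsg.Agent.ChevalleyStructure.RootComb Cfsg.Agent.ChevalleyStructure.NPerm Cfsg.Agent.H190

/-- up to a permutation of the roots, the values at `(x, y)` and `(x', y')` agree modulo `ℓ` -/
def Rel (D : ChevalleyDatum) (ℓ : ℕ) (x y x' y' : ℕ → ℤ) : Prop :=
  ∃ π : Equiv.Perm (Fin D.nroots), ∀ r : Fin D.nroots, ((val D x' r : ℤ) : ZMod ℓ) = (val D x (π r) : ℤ) ∧
    ((val D y' r : ℤ) : ZMod ℓ) = (val D y (π r) : ℤ)

variable {D : ChevalleyDatum} {ℓ : ℕ}

theorem Rel.refl (x y : ℕ → ℤ) : Rel D ℓ x y x y := ⟨1, fun _ => ⟨rfl, rfl⟩⟩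

theorem Rel.trans {x y x' y' x'' y'' : ℕ → ℤ} (h1 : Rel D ℓ x y x' y') (h2 : Rel D ℓ x' y' x'' y'') :
    Rel D ℓ x y x'' y'' := by
  obtain ⟨π, hπ⟩ := h1
  obtain ⟨σ, hσ⟩ := h2
  exact ⟨π * σ, fun r => ⟨(hσ r).1.trans (hπ (σ r)).1, (hσ r).2.trans (hπ (σ r)).2⟩⟩

/-- the simple reflection on vectors -/
def sx (D : ChevalleyDatum) (i : ℕ) (x : ℕ → ℤ) (j : ℕ) : ℤ := x j - D.cartan j (D.simple i) * x i

/-- translation by `- ℓ θ^∨` -/
def tx (D : ChevalleyDatum) (ℓ : ℕ) (x : ℕ → ℤ) (j : ℕ) : ℤ := x j - ℓ * D.cartan j (D.nroots - 1)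

theorem val_simple (G : Good D) (x : ℕ → ℤ) {i : ℕ} (hi : i < D.rank) : val D x (D.simple i) = x i := by
  unfold val
  rw [Finset.sum_eq_single i]
  · rw [G.co_simple hi hi, if_pos rfl, one_mul]
  · intro j hj hji
    rw [G.co_simple hi (Finset.mem_range.1 hj), if_neg (Ne.symm hji), zero_mul]
  · intro h
    exact absurd (Finset.mem_range.2 hi) h

theorem val_neg (G : Good D) (x : ℕ → ℤ) {r : ℕ} (hr : r < D.nroots) : val D x (D.neg r) = - val D x r := by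
  unfold val
  rw [← Finset.sum_neg_distrib]
  refine Finset.sum_congr rfl fun k hk => ?_
  rw [G.co_neg hr (Finset.mem_range.1 hk), neg_mul]

theorem val_reflect (G : Good D) (x : ℕ → ℤ) {i r : ℕ} (hi : i < D.rank) (hr : r < D.nroots) :
    val D x (D.reflectRoot i r) = val D x r - car D r (D.simple i) * x i := by
  unfold val
  have h : ∀ k ∈ Finset.range D.rank, co D (D.reflectRoot i r) k * x k =
      co D r k * x k - (if k = i then car D r (D.simple i) * x i else 0) := by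
    intro k hk
    rw [G.co_reflect hi hr (Finset.mem_range.1 hk)]
    by_cases hki : k = i
    · subst hki
      rw [if_pos rfl, if_pos rfl]
      ring
    · rw [if_neg hki, if_neg hki]
      ring
  rw [Finset.sum_congr rfl h, Finset.sum_sub_distrib, Finset.sum_ite_eq', if_pos (Finset.mem_range.2 hi)]

theorem val_sx (G : Good D) (x : ℕ → ℤ) {i r : ℕ} (hi : i < D.rank) (hr : r < D.nroots) :
    val D (sx D i x) r = val D x (D.reflectRoot i r) := by
  rw [val_reflect G x hi hr]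
  unfold val sx car
  rw [Finset.sum_mul, ← Finset.sum_sub_distrib]
  refine Finset.sum_congr rfl fun k _ => ?_
  ring

theorem val_tx (ℓ : ℕ) (x : ℕ → ℤ) (r : ℕ) :
    val D (tx D ℓ x) r = val D x r - ℓ * car D r (D.nroots - 1) := by
  unfold val tx car
  rw [Finset.mul_sum, ← Finset.sum_sub_distrib]
  refine Finset.sum_congr rfl fun k _ => ?_
  ring

theorem rel_sx (G : Good D) (x y : ℕ → ℤ) {i : ℕ} (hi : i < D.rank) : Rel D ℓ x y (sx D i x) (sx D i y) := by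
  refine ⟨reflPerm G i hi, fun r => ?_⟩
  rw [val_sx G x hi r.2, val_sx G y hi r.2]
  exact ⟨rfl, rfl⟩

theorem rel_tx (x y : ℕ → ℤ) : Rel D ℓ x y (tx D ℓ x) y := by
  refine ⟨1, fun r => ?_⟩
  rw [val_tx]
  refine ⟨?_, rfl⟩
  push_cast
  rw [ZMod.natCast_self, zero_mul, sub_zero]
  rfl

/-- the square length -/
def Qf (D : ChevalleyDatum) (x : ℕ → ℤ) : ℤ := ∑ r : Fin D.nroots, (val D x r) ^ 2

theorem Qf_nonneg (x : ℕ → ℤ) : 0 ≤ Qf D x := Finset.sum_nonneg fun _ _ => sq_nonneg _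

theorem Qf_sx (G : Good D) (x : ℕ → ℤ) {i : ℕ} (hi : i < D.rank) : Qf D (sx D i x) = Qf D x := by
  unfold Qf
  rw [← Equiv.sum_comp (reflPerm G i hi)]
  refine Finset.sum_congr rfl fun r _ => ?_
  rw [val_sx G x hi (reflPerm G i hi r).2, reflPerm_apply, G.reflect_reflect hi r.2]

/-- the data for the translation step -/
structure Alc (D : ChevalleyDatum) (h : ℤ) : Prop where
  pos : 0 < h
  sum_co : ∀ j < D.rank, ∑ r : Fin D.nroots, car D r (D.nroots - 1) * co D r j = 2 * h * co D (D.nroots - 1) j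
  sum_sq : ∑ r : Fin D.nroots, (car D r (D.nroots - 1)) ^ 2 = 4 * h

theorem Qf_tx {h : ℤ} (hA : Alc D h) (ℓ : ℕ) (x : ℕ → ℤ) :
    Qf D (tx D ℓ x) = Qf D x - 4 * h * ℓ * (val D x (D.nroots - 1) - ℓ) := by
  unfold Qf
  have h1 : ∀ r : Fin D.nroots, (val D (tx D ℓ x) r) ^ 2 = (val D x r) ^ 2 -
      2 * ℓ * (car D r (D.nroots - 1) * val D x r) + ℓ ^ 2 * (car D r (D.nroots - 1)) ^ 2 := by
    intro r
    rw [val_tx]
    ring
  simp_rw [h1]
  rw [Finset.sum_add_distrib, Finset.sum_sub_distrib, ← Finset.mul_sum, ← Finset.mul_sum, hA.sum_sq]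
  have h2 : ∑ r : Fin D.nroots, car D r (D.nroots - 1) * val D x r = 2 * h * val D x (D.nroots - 1) := by
    unfold val
    simp_rw [Finset.mul_sum]
    rw [Finset.sum_comm]
    refine Finset.sum_congr rfl fun j hj => ?_
    have := hA.sum_co j (Finset.mem_range.1 hj)
    calc ∑ r : Fin D.nroots, car D r (D.nroots - 1) * (co D r j * x j)
        = (∑ r : Fin D.nroots, car D r (D.nroots - 1) * co D r j) * x j := by
          rw [Finset.sum_mul]
          exact Finset.sum_congr rfl fun r _ => by ring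
      _ = _ := by rw [this]; ring
  rw [h2]
  ring

/-- the number of positive roots with negative value -/
def nneg (D : ChevalleyDatum) (x : ℕ → ℤ) : ℕ :=
  (Finset.univ.filter fun r : Fin D.nroots => D.nroots / 2 ≤ (r : ℕ) ∧ val D x r < 0).card

theorem nneg_sx (G : Good D) (x : ℕ → ℤ) {i : ℕ} (hi : i < D.rank) (hx : x i < 0) :
    nneg D (sx D i x) < nneg D x := by
  classical
  unfold nneg
  set A := Finset.univ.filter fun r : Fin D.nroots => D.nroots / 2 ≤ (r : ℕ) ∧ val D x r < 0 with hA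
  set B := Finset.univ.filter fun r : Fin D.nroots => D.nroots / 2 ≤ (r : ℕ) ∧ val D (sx D i x) r < 0 with hB
  let αi : Fin D.nroots := ⟨D.simple i, G.simple_lt hi⟩
  have hpos : ∀ r : Fin D.nroots, D.nroots / 2 ≤ (r : ℕ) ↔ D.IsPosRoot r := by
    intro r
    rw [G.isPosRoot_iff]
    exact ⟨fun h => ⟨h, r.2⟩, fun h => h.1⟩
  have hαA : αi ∈ A := by
    rw [hA, Finset.mem_filter]
    refine ⟨Finset.mem_univ _, (hpos αi).2 (G.simple_pos hi), ?_⟩
    change val D x (D.simple i) < 0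
    rw [val_simple G x hi]
    exact hx
  have hmaps : ∀ r ∈ B, reflPerm G i hi r ∈ A.erase αi := by
    intro r hr
    rw [hB, Finset.mem_filter] at hr
    obtain ⟨-, hr1, hr2⟩ := hr
    rw [hpos] at hr1
    rw [val_sx G x hi r.2] at hr2
    have hne : (r : ℕ) ≠ D.simple i := by
      intro h
      rw [h, val_reflect G x hi (G.simple_lt hi), car_simple G hi, G.cartan_simple hi, val_simple G x hi] at hr2
      omega
    have hp := G.reflect_pos hi hr1 hne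
    rw [Finset.mem_erase, hA, Finset.mem_filter]
    refine ⟨?_, Finset.mem_univ _, ?_, ?_⟩
    · intro h
      have h1 : D.reflectRoot i r = D.simple i := congrArg Fin.val h
      have h2 : (r : ℕ) = D.neg (D.simple i) := by
        rw [← G.reflect_simple hi, ← h1, G.reflect_reflect hi r.2]
      have h3 := (isPosRoot_neg G (G.simple_lt hi)).1 (h2 ▸ hr1)
      exact not_pos_of_neg G h3 (G.simple_pos hi)
    · rw [hpos]
      exact hp
    · exact hr2
  have hcard : B.card ≤ (A.erase αi).card :=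
    Finset.card_le_card_of_injOn _ hmaps (fun a _ b _ h => (reflPerm G i hi).injective h)
  exact lt_of_le_of_lt hcard (Finset.card_erase_lt_of_mem hαA)

/-- **reduction to the fundamental alcove** -/
theorem reduce (G : Good D) {h : ℤ} (hA : Alc D h) (hl : 0 < ℓ) (x y : ℕ → ℤ) :
    ∃ x' y' : ℕ → ℤ, Rel D ℓ x y x' y' ∧ (∀ i < D.rank, 0 ≤ x' i) ∧ val D x' (D.nroots - 1) ≤ ℓ := by
  -- induction on the pair (Q, nneg)
  have key : ∀ (n : ℕ) (m : ℕ) (x y : ℕ → ℤ), (Qf D x).toNat = n → nneg D x = m →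
      ∃ x' y' : ℕ → ℤ, Rel D ℓ x y x' y' ∧ (∀ i < D.rank, 0 ≤ x' i) ∧ val D x' (D.nroots - 1) ≤ ℓ := by
    intro n
    induction n using Nat.strong_induction_on with
    | _ n ih1 =>
      intro m
      induction m using Nat.strong_induction_on with
      | _ m ih2 =>
        intro x y hn hm
        by_cases hdom : ∀ i < D.rank, 0 ≤ x i
        · by_cases hv : val D x (D.nroots - 1) ≤ ℓ
          · exact ⟨x, y, Rel.refl x y, hdom, hv⟩
          · have h1 := Qf_tx hA ℓ x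
            have h2 := Qf_nonneg (D := D) x
            have h3 := Qf_nonneg (D := D) (tx D ℓ x)
            have h4 : 0 < 4 * h * ℓ * (val D x (D.nroots - 1) - ℓ) := by
              have := hA.pos
              have hl' : (0 : ℤ) < ℓ := by exact_mod_cast hl
              have h5 : 0 < val D x (D.nroots - 1) - ℓ := by omega
              positivity
            obtain ⟨x', y', hr, hd⟩ := ih1 (Qf D (tx D ℓ x)).toNat (by omega) _ (tx D ℓ x) y rfl rfl
            exact ⟨x', y', (rel_tx x y).trans hr, hd⟩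
        · push Not at hdom
          obtain ⟨i, hi, hxi⟩ := hdom
          obtain ⟨x', y', hr, hd⟩ := ih2 (nneg D (sx D i x)) (hm ▸ nneg_sx G x hi hxi) (sx D i x) (sx D i y)
            (by rw [Qf_sx G x hi, hn]) rfl
          exact ⟨x', y', (rel_sx G x y hi).trans hr, hd⟩
  exact key _ _ x y rfl rfl

theorem alcE7 : Alc chevE7 18 where
  pos := by norm_num
  sum_co := by decide +kernel
  sum_sq := by decide +kernel

theorem alcE8 : Alc chevE8 30 where
  pos := by norm_num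
  sum_co := by decide +kernel
  sum_sq := by decide +kernel

end Cfsg.Agent.H186
end

-- part: H186/ExcHist
section
/-!
# Histograms of root values (helper186)

Tables of the positive roots of `E₇`, `E₈`, sums over the roots as sums over the table, counts `N1`, `N2` of roots with given
values modulo `ℓ`, and the enumeration of the dominant vectors in the fundamental alcove.
-/

set_option autoImplicit false

namespace Cfsg.Agent.H186

open Cfsg.Lie Cfsg.Agent.ChevalleyStructure Cfsg.Agent.ChevalleyStructure.Elts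
  Cfsg.Agent.ChevalleyStructure.RootCombGood Cfsg.Agent.ChevalleyStructure.RootWord
  Cfsg.Agent.ChevalleyStructure.RootComb Cfsg.Agent.ChevalleyStructure.NPerm Cfsg.Agent.H190

/-- dot product of lists -/
def dotL (l : List ℕ) : List ℕ → ℕ :=
  List.rec (motive := fun _ => List ℕ → ℕ) (fun _ => 0)
    (fun a _ ih m => List.rec (motive := fun _ => ℕ) 0 (fun b t _ => Nat.add (Nat.mul a b) (ih t)) m) l

theorem dotL_nil (m : List ℕ) : dotL [] m = 0 := rfl

theorem dotL_cons (a b : ℕ) (l m : List ℕ) : dotL (a :: l) (b :: m) = a * b + dotL l m := rfl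

theorem dotL_eq : ∀ (l m : List ℕ), l.length = m.length →
    dotL l m = ∑ j ∈ Finset.range l.length, l.getD j 0 * m.getD j 0
  | [], m, _ => by simp [dotL_nil]
  | a :: l, [], h => by simp at h
  | a :: l, b :: m, h => by
    rw [dotL_cons, dotL_eq l m (by simpa using h), List.length_cons, Finset.sum_range_succ']
    simp only [List.getD_cons_succ, List.getD_cons_zero]
    rw [add_comm]

/-- `T` is the table of the coefficients of the positive roots of `D` -/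
structure PosTab (D : ChevalleyDatum) (T : List (List ℕ)) : Prop where
  len : D.nroots = 2 * T.length
  rowlen : ∀ row ∈ T, row.length = D.rank
  row : ∀ k < T.length, ∀ j < D.rank, co D (T.length + k) j = ((T.getD k []).getD j 0 : ℕ)

variable {D : ChevalleyDatum} {T : List (List ℕ)} {ℓ : ℕ}

theorem PosTab.getD_len (hT : PosTab D T) {k : ℕ} (hk : k < T.length) : (T.getD k []).length = D.rank := by
  apply hT.rowlen
  rw [List.getD_eq_getElem _ _ hk]
  exact List.getElem_mem hk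

/-- the list `X` of naturals represents the vector `x` modulo `ℓ` -/
structure Repr (D : ChevalleyDatum) (ℓ : ℕ) (x : ℕ → ℤ) (X : List ℕ) : Prop where
  len : X.length = D.rank
  eq : ∀ j < D.rank, ((x j : ℤ) : ZMod ℓ) = ((X.getD j 0 : ℕ) : ZMod ℓ)

theorem val_row (hT : PosTab D T) {x : ℕ → ℤ} {X : List ℕ} (hX : Repr D ℓ x X) {k : ℕ} (hk : k < T.length) :
    ((val D x (T.length + k) : ℤ) : ZMod ℓ) = ((dotL (T.getD k []) X : ℕ) : ZMod ℓ) := by
  have hl := hT.getD_len hk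
  rw [dotL_eq _ _ (hl.trans hX.len.symm), hl]
  unfold val
  push_cast
  refine Finset.sum_congr rfl fun j hj => ?_
  have hj' := Finset.mem_range.1 hj
  rw [hT.row k hk j hj', hX.eq j hj']
  push_cast
  rfl

theorem sum_getD {M : Type*} [AddCommMonoid M] {α : Type*} (d : α) (f : α → M) : ∀ T : List α,
    (T.map f).sum = ∑ k ∈ Finset.range T.length, f (T.getD k d)
  | [] => by simp
  | a :: T => by
    rw [List.map_cons, List.sum_cons, sum_getD d f T, List.length_cons, Finset.sum_range_succ']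
    simp only [List.getD_cons_succ, List.getD_cons_zero]
    rw [add_comm]

/-- sums over the roots as sums over the table -/
theorem sum_roots (G : Good D) (hT : PosTab D T) {M : Type*} [AddCommMonoid M] (Φ : ZMod ℓ → ZMod ℓ → M)
    {x y : ℕ → ℤ} {X Y : List ℕ} (hX : Repr D ℓ x X) (hY : Repr D ℓ y Y) :
    ∑ r : Fin D.nroots, Φ ((val D x r : ℤ) : ZMod ℓ) ((val D y r : ℤ) : ZMod ℓ) =
      (T.map fun row => Φ ((dotL row X : ℕ) : ZMod ℓ) ((dotL row Y : ℕ) : ZMod ℓ) +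
        Φ (-((dotL row X : ℕ) : ZMod ℓ)) (-((dotL row Y : ℕ) : ZMod ℓ))).sum := by
  rw [sum_getD ([] : List ℕ), Fin.sum_univ_eq_sum_range
    (fun r => Φ ((val D x r : ℤ) : ZMod ℓ) ((val D y r : ℤ) : ZMod ℓ)), hT.len, two_mul, Finset.sum_range_add,
    Finset.sum_add_distrib, add_comm]
  congr 1
  · refine Finset.sum_congr rfl fun k hk => ?_
    rw [val_row hT hX (Finset.mem_range.1 hk), val_row hT hY (Finset.mem_range.1 hk)]
  · rw [← Finset.sum_range_reflect]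
    refine Finset.sum_congr rfl fun k hk => ?_
    have hk' := Finset.mem_range.1 hk
    have hlt : T.length + k < D.nroots := by rw [hT.len]; omega
    have hneg : D.neg (T.length + k) = T.length - 1 - k := by
      rw [G.neg_eq hlt, hT.len]; omega
    rw [← hneg, val_neg G x hlt, val_neg G y hlt]
    push_cast
    rw [val_row hT hX hk', val_row hT hY hk']

/-! ### counts -/

/-- number of roots with value `a` modulo `ℓ` -/
def N1 (D : ChevalleyDatum) (ℓ : ℕ) (x : ℕ → ℤ) (a : ZMod ℓ) : ℕ :=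
  (Finset.univ.filter fun r : Fin D.nroots => ((val D x r : ℤ) : ZMod ℓ) = a).card

/-- number of roots with values `a`, `b` modulo `ℓ` -/
def N2 (D : ChevalleyDatum) (ℓ : ℕ) (x y : ℕ → ℤ) (a b : ZMod ℓ) : ℕ :=
  (Finset.univ.filter fun r : Fin D.nroots => ((val D x r : ℤ) : ZMod ℓ) = a ∧ ((val D y r : ℤ) : ZMod ℓ) = b).card

theorem Rel.N1_eq {x y x' y' : ℕ → ℤ} (h : Rel D ℓ x y x' y') (a : ZMod ℓ) : N1 D ℓ x' a = N1 D ℓ x a := by
  obtain ⟨π, hπ⟩ := h
  unfold N1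
  refine Finset.card_bij (fun r _ => π r) ?_ (fun a _ b _ h => π.injective h) ?_
  · intro r hr
    rw [Finset.mem_filter] at hr ⊢
    exact ⟨Finset.mem_univ _, (hπ r).1 ▸ hr.2⟩
  · intro r hr
    rw [Finset.mem_filter] at hr
    refine ⟨π.symm r, ?_, π.apply_symm_apply r⟩
    rw [Finset.mem_filter]
    refine ⟨Finset.mem_univ _, ?_⟩
    rw [(hπ _).1, π.apply_symm_apply]
    exact hr.2

theorem Rel.N2_eq {x y x' y' : ℕ → ℤ} (h : Rel D ℓ x y x' y') (a b : ZMod ℓ) : N2 D ℓ x' y' a b = N2 D ℓ x y a b := by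
  obtain ⟨π, hπ⟩ := h
  unfold N2
  refine Finset.card_bij (fun r _ => π r) ?_ (fun a _ b _ h => π.injective h) ?_
  · intro r hr
    rw [Finset.mem_filter] at hr ⊢
    exact ⟨Finset.mem_univ _, (hπ r).1 ▸ hr.2.1, (hπ r).2 ▸ hr.2.2⟩
  · intro r hr
    rw [Finset.mem_filter] at hr
    refine ⟨π.symm r, ?_, π.apply_symm_apply r⟩
    rw [Finset.mem_filter]
    refine ⟨Finset.mem_univ _, ?_, ?_⟩
    · rw [(hπ _).1, π.apply_symm_apply]
      exact hr.2.1
    · rw [(hπ _).2, π.apply_symm_apply]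
      exact hr.2.2

/-- packed histogram of the values at `x` -/
theorem sum_pow_N1 [NeZero ℓ] (B : ℕ) (x : ℕ → ℤ) :
    ∑ r : Fin D.nroots, B ^ (((val D x r : ℤ) : ZMod ℓ)).val = ∑ a : ZMod ℓ, N1 D ℓ x a * B ^ a.val := by
  unfold N1
  simp_rw [Finset.card_filter, Finset.sum_mul]
  rw [Finset.sum_comm]
  refine Finset.sum_congr rfl fun r _ => ?_
  simp_rw [ite_mul, one_mul, zero_mul]
  rw [Finset.sum_ite_eq]
  simp

/-- packed histogram of the values at `y` of the roots with value `a` at `x` -/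
theorem sum_pow_N2 [NeZero ℓ] (B : ℕ) (x y : ℕ → ℤ) (a : ZMod ℓ) :
    ∑ r : Fin D.nroots, (if ((val D x r : ℤ) : ZMod ℓ) = a then B ^ (((val D y r : ℤ) : ZMod ℓ)).val else 0) =
      ∑ b : ZMod ℓ, N2 D ℓ x y a b * B ^ b.val := by
  unfold N2
  simp_rw [Finset.card_filter, Finset.sum_mul]
  rw [Finset.sum_comm]
  refine Finset.sum_congr rfl fun r _ => ?_
  simp_rw [ite_mul, one_mul, zero_mul]
  by_cases h : ((val D x r : ℤ) : ZMod ℓ) = a
  · simp only [h, true_and, if_true]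
    rw [Finset.sum_ite_eq]
    simp
  · simp only [h, false_and, if_false, Finset.sum_const_zero]

/-- every vector is represented by a list of naturals `< ℓ` -/
theorem exists_repr [NeZero ℓ] (D : ChevalleyDatum) (y : ℕ → ℤ) :
    ∃ Y : List ℕ, Repr D ℓ y Y ∧ ∀ v ∈ Y, v < ℓ := by
  refine ⟨(List.range D.rank).map fun j => (((y j : ℤ) : ZMod ℓ)).val, ⟨by simp, fun j hj => ?_⟩, ?_⟩
  · rw [List.getD_eq_getElem _ _ (by simpa using hj)]
    simp
  · intro v hv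
    rw [List.mem_map] at hv
    obtain ⟨j, -, rfl⟩ := hv
    exact ZMod.val_lt _

/-! ### enumeration of the alcove -/

/-- the lists `X` of naturals with `∑ m_j X_j ≤ b` -/
def enumL : List ℕ → ℕ → List (List ℕ)
  | [], _ => [[]]
  | m :: ms, b => (List.range (b + 1)).flatMap fun v => if m * v ≤ b then (enumL ms (b - m * v)).map (v :: ·) else []

theorem mem_enumL : ∀ (ms : List ℕ) (b : ℕ) (X : List ℕ), (∀ m ∈ ms, 0 < m) → X.length = ms.length →
    dotL ms X ≤ b → X ∈ enumL ms b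
  | [], b, X, _, hl, _ => by
    have : X = [] := List.eq_nil_of_length_eq_zero (by simpa using hl)
    simp [enumL, this]
  | m :: ms, b, [], _, hl, _ => by simp at hl
  | m :: ms, b, v :: X, hpos, hl, hd => by
    rw [dotL_cons] at hd
    unfold enumL
    rw [List.mem_flatMap]
    have hm : 0 < m := hpos m (by simp)
    have hv : m * v ≤ b := by omega
    have hvb : v ≤ b := le_trans (Nat.le_mul_of_pos_left v hm) hv
    refine ⟨v, by rw [List.mem_range]; omega, ?_⟩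
    rw [if_pos hv, List.mem_map]
    exact ⟨X, mem_enumL ms (b - m * v) X (fun a ha => hpos a (by simp [ha])) (by simpa using hl) (by omega), rfl⟩

/-- the reduced vectors are in the enumeration -/
theorem exists_enum (D : ChevalleyDatum) {ms : List ℕ} (hlen : ms.length = D.rank) (hpos : ∀ m ∈ ms, 0 < m)
    (hms : ∀ j < D.rank, co D (D.nroots - 1) j = (ms.getD j 0 : ℕ)) {x : ℕ → ℤ} (h0 : ∀ i < D.rank, 0 ≤ x i)
    (hv : val D x (D.nroots - 1) ≤ ℓ) : ∃ X ∈ enumL ms ℓ, X.length = D.rank ∧ ∀ j < D.rank, x j = (X.getD j 0 : ℕ) := by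
  have hX : ∀ j < D.rank, x j = ((((List.range D.rank).map fun j => (x j).toNat).getD j 0 : ℕ) : ℤ) := by
    intro j hj
    rw [List.getD_eq_getElem _ _ (by simpa using hj)]
    simp only [List.getElem_map, List.getElem_range]
    exact (Int.toNat_of_nonneg (h0 j hj)).symm
  refine ⟨(List.range D.rank).map fun j => (x j).toNat, ?_, by simp, hX⟩
  apply mem_enumL _ _ _ hpos (by simp [hlen])
  rw [dotL_eq _ _ (by simp [hlen]), hlen]
  have h1 : val D x (D.nroots - 1) = ((∑ j ∈ Finset.range D.rank, ms.getD j 0 *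
      ((List.range D.rank).map fun j => (x j).toNat).getD j 0 : ℕ) : ℤ) := by
    unfold val
    push_cast
    refine Finset.sum_congr rfl fun j hj => ?_
    have hj' := Finset.mem_range.1 hj
    rw [hms j hj', hX j hj']
  rw [h1] at hv
  exact_mod_cast hv

/-! ### the tables -/

def posE7 : List (List ℕ) :=
  [[0, 0, 0, 0, 0, 0, 1], [0, 0, 0, 0, 0, 1, 0], [0, 0, 0, 0, 0, 1, 1], [0, 0, 0, 0, 1, 0, 0],
   [0, 0, 0, 0, 1, 1, 0], [0, 0, 0, 0, 1, 1, 1], [0, 0, 0, 1, 0, 0, 0], [0, 0, 0, 1, 1, 0, 0],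
   [0, 0, 0, 1, 1, 1, 0], [0, 0, 0, 1, 1, 1, 1], [0, 0, 1, 0, 0, 0, 0], [0, 0, 1, 1, 0, 0, 0],
   [0, 0, 1, 1, 1, 0, 0], [0, 0, 1, 1, 1, 1, 0], [0, 0, 1, 1, 1, 1, 1], [0, 1, 0, 0, 0, 0, 0],
   [0, 1, 0, 1, 0, 0, 0], [0, 1, 0, 1, 1, 0, 0], [0, 1, 0, 1, 1, 1, 0], [0, 1, 0, 1, 1, 1, 1],
   [0, 1, 1, 1, 0, 0, 0], [0, 1, 1, 1, 1, 0, 0], [0, 1, 1, 1, 1, 1, 0], [0, 1, 1, 1, 1, 1, 1],
   [0, 1, 1, 2, 1, 0, 0], [0, 1, 1, 2, 1, 1, 0], [0, 1, 1, 2, 1, 1, 1], [0, 1, 1, 2, 2, 1, 0],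
   [0, 1, 1, 2, 2, 1, 1], [0, 1, 1, 2, 2, 2, 1], [1, 0, 0, 0, 0, 0, 0], [1, 0, 1, 0, 0, 0, 0],
   [1, 0, 1, 1, 0, 0, 0], [1, 0, 1, 1, 1, 0, 0], [1, 0, 1, 1, 1, 1, 0], [1, 0, 1, 1, 1, 1, 1],
   [1, 1, 1, 1, 0, 0, 0], [1, 1, 1, 1, 1, 0, 0], [1, 1, 1, 1, 1, 1, 0], [1, 1, 1, 1, 1, 1, 1],
   [1, 1, 1, 2, 1, 0, 0], [1, 1, 1, 2, 1, 1, 0], [1, 1, 1, 2, 1, 1, 1], [1, 1, 1, 2, 2, 1, 0],
   [1, 1, 1, 2, 2, 1, 1], [1, 1, 1, 2, 2, 2, 1], [1, 1, 2, 2, 1, 0, 0], [1, 1, 2, 2, 1, 1, 0],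
   [1, 1, 2, 2, 1, 1, 1], [1, 1, 2, 2, 2, 1, 0], [1, 1, 2, 2, 2, 1, 1], [1, 1, 2, 2, 2, 2, 1],
   [1, 1, 2, 3, 2, 1, 0], [1, 1, 2, 3, 2, 1, 1], [1, 1, 2, 3, 2, 2, 1], [1, 1, 2, 3, 3, 2, 1],
   [1, 2, 2, 3, 2, 1, 0], [1, 2, 2, 3, 2, 1, 1], [1, 2, 2, 3, 2, 2, 1], [1, 2, 2, 3, 3, 2, 1],
   [1, 2, 2, 4, 3, 2, 1], [1, 2, 3, 4, 3, 2, 1], [2, 2, 3, 4, 3, 2, 1]]

def posE8 : List (List ℕ) :=
  [[0, 0, 0, 0, 0, 0, 0, 1], [0, 0, 0, 0, 0, 0, 1, 0], [0, 0, 0, 0, 0, 0, 1, 1], [0, 0, 0, 0, 0, 1, 0, 0],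
   [0, 0, 0, 0, 0, 1, 1, 0], [0, 0, 0, 0, 0, 1, 1, 1], [0, 0, 0, 0, 1, 0, 0, 0], [0, 0, 0, 0, 1, 1, 0, 0],
   [0, 0, 0, 0, 1, 1, 1, 0], [0, 0, 0, 0, 1, 1, 1, 1], [0, 0, 0, 1, 0, 0, 0, 0], [0, 0, 0, 1, 1, 0, 0, 0],
   [0, 0, 0, 1, 1, 1, 0, 0], [0, 0, 0, 1, 1, 1, 1, 0], [0, 0, 0, 1, 1, 1, 1, 1], [0, 0, 1, 0, 0, 0, 0, 0],
   [0, 0, 1, 1, 0, 0, 0, 0], [0, 0, 1, 1, 1, 0, 0, 0], [0, 0, 1, 1, 1, 1, 0, 0], [0, 0, 1, 1, 1, 1, 1, 0],
   [0, 0, 1, 1, 1, 1, 1, 1], [0, 1, 0, 0, 0, 0, 0, 0], [0, 1, 0, 1, 0, 0, 0, 0], [0, 1, 0, 1, 1, 0, 0, 0],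
   [0, 1, 0, 1, 1, 1, 0, 0], [0, 1, 0, 1, 1, 1, 1, 0], [0, 1, 0, 1, 1, 1, 1, 1], [0, 1, 1, 1, 0, 0, 0, 0],
   [0, 1, 1, 1, 1, 0, 0, 0], [0, 1, 1, 1, 1, 1, 0, 0], [0, 1, 1, 1, 1, 1, 1, 0], [0, 1, 1, 1, 1, 1, 1, 1],
   [0, 1, 1, 2, 1, 0, 0, 0], [0, 1, 1, 2, 1, 1, 0, 0], [0, 1, 1, 2, 1, 1, 1, 0], [0, 1, 1, 2, 1, 1, 1, 1],
   [0, 1, 1, 2, 2, 1, 0, 0], [0, 1, 1, 2, 2, 1, 1, 0], [0, 1, 1, 2, 2, 1, 1, 1], [0, 1, 1, 2, 2, 2, 1, 0],
   [0, 1, 1, 2, 2, 2, 1, 1], [0, 1, 1, 2, 2, 2, 2, 1], [1, 0, 0, 0, 0, 0, 0, 0], [1, 0, 1, 0, 0, 0, 0, 0],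
   [1, 0, 1, 1, 0, 0, 0, 0], [1, 0, 1, 1, 1, 0, 0, 0], [1, 0, 1, 1, 1, 1, 0, 0], [1, 0, 1, 1, 1, 1, 1, 0],
   [1, 0, 1, 1, 1, 1, 1, 1], [1, 1, 1, 1, 0, 0, 0, 0], [1, 1, 1, 1, 1, 0, 0, 0], [1, 1, 1, 1, 1, 1, 0, 0],
   [1, 1, 1, 1, 1, 1, 1, 0], [1, 1, 1, 1, 1, 1, 1, 1], [1, 1, 1, 2, 1, 0, 0, 0], [1, 1, 1, 2, 1, 1, 0, 0],
   [1, 1, 1, 2, 1, 1, 1, 0], [1, 1, 1, 2, 1, 1, 1, 1], [1, 1, 1, 2, 2, 1, 0, 0], [1, 1, 1, 2, 2, 1, 1, 0],
   [1, 1, 1, 2, 2, 1, 1, 1], [1, 1, 1, 2, 2, 2, 1, 0], [1, 1, 1, 2, 2, 2, 1, 1], [1, 1, 1, 2, 2, 2, 2, 1],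
   [1, 1, 2, 2, 1, 0, 0, 0], [1, 1, 2, 2, 1, 1, 0, 0], [1, 1, 2, 2, 1, 1, 1, 0], [1, 1, 2, 2, 1, 1, 1, 1],
   [1, 1, 2, 2, 2, 1, 0, 0], [1, 1, 2, 2, 2, 1, 1, 0], [1, 1, 2, 2, 2, 1, 1, 1], [1, 1, 2, 2, 2, 2, 1, 0],
   [1, 1, 2, 2, 2, 2, 1, 1], [1, 1, 2, 2, 2, 2, 2, 1], [1, 1, 2, 3, 2, 1, 0, 0], [1, 1, 2, 3, 2, 1, 1, 0],
   [1, 1, 2, 3, 2, 1, 1, 1], [1, 1, 2, 3, 2, 2, 1, 0], [1, 1, 2, 3, 2, 2, 1, 1], [1, 1, 2, 3, 2, 2, 2, 1],
   [1, 1, 2, 3, 3, 2, 1, 0], [1, 1, 2, 3, 3, 2, 1, 1], [1, 1, 2, 3, 3, 2, 2, 1], [1, 1, 2, 3, 3, 3, 2, 1],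
   [1, 2, 2, 3, 2, 1, 0, 0], [1, 2, 2, 3, 2, 1, 1, 0], [1, 2, 2, 3, 2, 1, 1, 1], [1, 2, 2, 3, 2, 2, 1, 0],
   [1, 2, 2, 3, 2, 2, 1, 1], [1, 2, 2, 3, 2, 2, 2, 1], [1, 2, 2, 3, 3, 2, 1, 0], [1, 2, 2, 3, 3, 2, 1, 1],
   [1, 2, 2, 3, 3, 2, 2, 1], [1, 2, 2, 3, 3, 3, 2, 1], [1, 2, 2, 4, 3, 2, 1, 0], [1, 2, 2, 4, 3, 2, 1, 1],
   [1, 2, 2, 4, 3, 2, 2, 1], [1, 2, 2, 4, 3, 3, 2, 1], [1, 2, 2, 4, 4, 3, 2, 1], [1, 2, 3, 4, 3, 2, 1, 0],
   [1, 2, 3, 4, 3, 2, 1, 1], [1, 2, 3, 4, 3, 2, 2, 1], [1, 2, 3, 4, 3, 3, 2, 1], [1, 2, 3, 4, 4, 3, 2, 1],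
   [1, 2, 3, 5, 4, 3, 2, 1], [1, 3, 3, 5, 4, 3, 2, 1], [2, 2, 3, 4, 3, 2, 1, 0], [2, 2, 3, 4, 3, 2, 1, 1],
   [2, 2, 3, 4, 3, 2, 2, 1], [2, 2, 3, 4, 3, 3, 2, 1], [2, 2, 3, 4, 4, 3, 2, 1], [2, 2, 3, 5, 4, 3, 2, 1],
   [2, 2, 4, 5, 4, 3, 2, 1], [2, 3, 3, 5, 4, 3, 2, 1], [2, 3, 4, 5, 4, 3, 2, 1], [2, 3, 4, 6, 4, 3, 2, 1],
   [2, 3, 4, 6, 5, 3, 2, 1], [2, 3, 4, 6, 5, 4, 2, 1], [2, 3, 4, 6, 5, 4, 3, 1], [2, 3, 4, 6, 5, 4, 3, 2]]

theorem posTabE7 : PosTab chevE7 posE7 where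
  len := by decide +kernel
  rowlen := by decide +kernel
  row := by decide +kernel

theorem posTabE8 : PosTab chevE8 posE8 where
  len := by decide +kernel
  rowlen := by decide +kernel
  row := by decide +kernel

/-- the marks of `E₇` -/
def marksE7 : List ℕ := [2, 2, 3, 4, 3, 2, 1]

/-- the marks of `E₈` -/
def marksE8 : List ℕ := [2, 3, 4, 6, 5, 4, 3, 2]

theorem marksE7_spec : marksE7.length = chevE7.rank ∧ (∀ m ∈ marksE7, 0 < m) ∧
    ∀ j < chevE7.rank, co chevE7 (chevE7.nroots - 1) j = (marksE7.getD j 0 : ℕ) := by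
  decide +kernel

theorem marksE8_spec : marksE8.length = chevE8.rank ∧ (∀ m ∈ marksE8, 0 < m) ∧
    ∀ j < chevE8.rank, co chevE8 (chevE8.nroots - 1) j = (marksE8.getD j 0 : ℕ) := by
  decide +kernel

end Cfsg.Agent.H186
end

-- part: H186/ExcClass
section
/-!
# Rational toral elements: kernel computations (helper186)

* `class7` (E₇, ℓ = 7), `class5` (E₇, ℓ = 5), `class3` (E₈, ℓ = 3): the possible numbers of zero roots of a rational vector;
* `no_pair7`: there is no pair of vectors modulo `7` with the multiplicities forced by `7² ≤ A₁₄`.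
-/

set_option autoImplicit false
set_option maxRecDepth 100000

namespace Cfsg.Agent.H186

open Cfsg.Lie Cfsg.Agent.ChevalleyStructure Cfsg.Agent.ChevalleyStructure.Elts
  Cfsg.Agent.ChevalleyStructure.RootCombGood Cfsg.Agent.ChevalleyStructure.RootWord
  Cfsg.Agent.ChevalleyStructure.RootComb Cfsg.Agent.ChevalleyStructure.NPerm Cfsg.Agent.H190

/-! ### lists -/

/-- sum of `f` over the list -/
def sumL {α : Type} (f : α → ℕ) (l : List α) : ℕ :=
  List.rec (motive := fun _ => ℕ) 0 (fun a _ ih => Nat.add (f a) ih) l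

theorem sumL_eq {α : Type} (f : α → ℕ) : ∀ l : List α, (l.map f).sum = sumL f l
  | [] => rfl
  | a :: l => by rw [List.map_cons, List.sum_cons, sumL_eq f l]; rfl

/-- the packed histogram of the list table at `X` -/
def histL (T : List (List ℕ)) (ℓ B : ℕ) (X : List ℕ) : ℕ :=
  sumL (fun row => Nat.add (Nat.pow B (Nat.mod (dotL row X) ℓ)) (Nat.pow B (Nat.mod (Nat.sub ℓ (Nat.mod (dotL row X) ℓ)) ℓ))) T

theorem val_neg_cast {ℓ : ℕ} [NeZero ℓ] (n : ℕ) : (-((n : ℕ) : ZMod ℓ)).val = (ℓ - n % ℓ) % ℓ := by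
  rw [ZMod.neg_val', ZMod.val_natCast]

theorem hist_eq {D : ChevalleyDatum} {T : List (List ℕ)} {ℓ : ℕ} [NeZero ℓ] (G : Good D) (hT : PosTab D T) (B : ℕ)
    {x : ℕ → ℤ} {X : List ℕ} (hX : Repr D ℓ x X) :
    ∑ a : ZMod ℓ, N1 D ℓ x a * B ^ a.val = histL T ℓ B X := by
  rw [← sum_pow_N1, sum_roots G hT (fun u _ => B ^ u.val) hX hX, sumL_eq]
  unfold histL
  congr 1
  funext row
  show B ^ _ + B ^ _ = Nat.add (Nat.pow _ _) (Nat.pow _ _)
  rw [ZMod.val_natCast, val_neg_cast]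
  rfl

theorem N1_le (D : ChevalleyDatum) (ℓ : ℕ) (x : ℕ → ℤ) (a : ZMod ℓ) : N1 D ℓ x a ≤ D.nroots := by
  unfold N1
  refine (Finset.card_filter_le _ _).trans ?_
  rw [Finset.card_univ, Fintype.card_fin]

def allIn {α : Type} (f : α → Bool) (l : List α) : Bool :=
  List.rec (motive := fun _ => Bool) true (fun a _ ih => and (f a) ih) l

theorem allIn_spec {α : Type} {f : α → Bool} : ∀ {l : List α}, allIn f l = true → ∀ a ∈ l, f a = true
  | [], _, a, ha => by cases ha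
  | b :: l, h, a, ha => by
    have h' : (f b && allIn f l) = true := h
    rw [Bool.and_eq_true] at h'
    rcases List.mem_cons.1 ha with rfl | ha
    · exact h'.1
    · exact allIn_spec h'.2 a ha

/-- if `h = f + μ S` then `f ∈ L` -/
def ratChk (B S : ℕ) (L : List ℕ) (h : ℕ) : Bool :=
  or (!(Nat.beq h (Nat.add (Nat.mod h B) (Nat.mul (Nat.mod (Nat.div h B) B) S)))) (L.any fun f => Nat.beq (Nat.mod h B) f)

/-! ### E₇, ℓ = 7 -/

theorem ratChk7 : allIn (fun X => ratChk 256 282578800148736 [12, 24, 30, 126] (histL posE7 7 256 X)) (enumL marksE7 7) = true := by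
  decide +kernel

theorem ratChk7' : allIn (fun X => or (!(Nat.beq (histL posE7 7 256 X) (12 + 19 * 282578800148736)))
    (or (X == [0, 0, 0, 1, 0, 1, 0]) (X == [1, 0, 0, 1, 0, 0, 1]))) (enumL marksE7 7) = true := by
  decide +kernel

theorem ratChk5 : allIn (fun X => ratChk 256 4311810304 [26, 126] (histL posE7 5 256 X)) (enumL marksE7 5) = true := by
  decide +kernel

theorem ratChk3 : allIn (fun X => (([72, 78, 84, 126, 240] : List ℕ).any fun f => Nat.beq (Nat.mod (histL posE8 3 256 X) 256) f))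
    (enumL marksE8 3) = true := by
  decide +kernel

/-- reduction of a single vector to the table -/
theorem exists_list {D : ChevalleyDatum} (G : Good D) {h : ℤ} (hA : Alc D h) {ℓ : ℕ} (hl : 0 < ℓ) {ms : List ℕ}
    (hms : ms.length = D.rank ∧ (∀ m ∈ ms, 0 < m) ∧ ∀ j < D.rank, co D (D.nroots - 1) j = (ms.getD j 0 : ℕ))
    (x y : ℕ → ℤ) : ∃ (x' y' : ℕ → ℤ) (X : List ℕ), Rel D ℓ x y x' y' ∧ Repr D ℓ x' X ∧ X ∈ enumL ms ℓ := by
  obtain ⟨x', y', hr, h0, hv⟩ := reduce G hA hl x y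
  obtain ⟨X, hX, hXl, hXe⟩ := exists_enum D hms.1 hms.2.1 hms.2.2 h0 hv
  refine ⟨x', y', X, hr, ⟨hXl, fun j hj => ?_⟩, hX⟩
  rw [hXe j hj]
  push_cast
  rfl


theorem sum_zmod7 (f : ZMod 7 → ℕ) : ∑ a, f a = f 0 + f 1 + f 2 + f 3 + f 4 + f 5 + f 6 := by
  exact Fin.sum_univ_seven f

theorem sum_zmod5 (f : ZMod 5 → ℕ) : ∑ a, f a = f 0 + f 1 + f 2 + f 3 + f 4 := by
  exact Fin.sum_univ_five f

theorem sum_zmod3 (f : ZMod 3 → ℕ) : ∑ a, f a = f 0 + f 1 + f 2 := by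
  exact Fin.sum_univ_three f

theorem hist7 (g : ZMod 7 → ℕ) {μ : ℕ} (h : ∀ a, a ≠ 0 → g a = μ) :
    ∑ a, g a * 256 ^ a.val = g 0 + μ * 282578800148736 := by
  rw [sum_zmod7, h 1 (by decide), h 2 (by decide), h 3 (by decide), h 4 (by decide), h 5 (by decide), h 6 (by decide)]
  have e0 : (0 : ZMod 7).val = 0 := rfl
  have e1 : (1 : ZMod 7).val = 1 := rfl
  have e2 : (2 : ZMod 7).val = 2 := rfl
  have e3 : (3 : ZMod 7).val = 3 := rfl
  have e4 : (4 : ZMod 7).val = 4 := rfl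
  have e5 : (5 : ZMod 7).val = 5 := rfl
  have e6 : (6 : ZMod 7).val = 6 := rfl
  rw [e0, e1, e2, e3, e4, e5, e6]
  norm_num
  ring

theorem hist5 (g : ZMod 5 → ℕ) {μ : ℕ} (h : ∀ a, a ≠ 0 → g a = μ) :
    ∑ a, g a * 256 ^ a.val = g 0 + μ * 4311810304 := by
  rw [sum_zmod5, h 1 (by decide), h 2 (by decide), h 3 (by decide), h 4 (by decide)]
  have e0 : (0 : ZMod 5).val = 0 := rfl
  have e1 : (1 : ZMod 5).val = 1 := rfl
  have e2 : (2 : ZMod 5).val = 2 := rfl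
  have e3 : (3 : ZMod 5).val = 3 := rfl
  have e4 : (4 : ZMod 5).val = 4 := rfl
  rw [e0, e1, e2, e3, e4]
  norm_num
  ring

theorem ratChk_spec {B S : ℕ} {L : List ℕ} {f μ : ℕ} (hS : S % B = 0) (hS2 : (S / B) % B = 1) (hf : f < B) (hμ : μ < B)
    (h : ratChk B S L (f + μ * S) = true) : f ∈ L := by
  obtain ⟨T, rfl⟩ : B ∣ S := Nat.dvd_of_mod_eq_zero hS
  have hB : 0 < B := by omega
  rw [Nat.mul_div_cancel_left _ hB] at hS2
  have h1 : (f + μ * (B * T)) % B = f := by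
    rw [show μ * (B * T) = B * (μ * T) by ring, Nat.add_mul_mod_self_left, Nat.mod_eq_of_lt hf]
  have h2 : (f + μ * (B * T)) / B = μ * T := by
    rw [show μ * (B * T) = B * (μ * T) by ring, Nat.add_mul_div_left _ _ hB, Nat.div_eq_of_lt hf, zero_add]
  have h3 : (μ * T) % B = μ := by
    rw [Nat.mul_mod, hS2, mul_one, Nat.mod_mod, Nat.mod_eq_of_lt hμ]
  unfold ratChk at h
  have e1 : Nat.mod (f + μ * (B * T)) B = f := h1
  have e2 : Nat.div (f + μ * (B * T)) B = μ * T := h2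
  have e3 : Nat.mod (μ * T) B = μ := h3
  rw [e1, e2, e3] at h
  have e4 : Nat.beq (f + μ * (B * T)) (Nat.add f (Nat.mul μ (B * T))) = true := Nat.beq_refl _
  rw [e4] at h
  simp only [Bool.not_true, Bool.false_or] at h
  rw [List.any_eq_true] at h
  obtain ⟨a, ha, hb⟩ := h
  rw [Nat.eq_of_beq_eq_true hb]
  exact ha

/-- rational toral elements of order `7` of `E₇` -/
theorem class7 (x : ℕ → ℤ) {μ : ℕ} (h : ∀ a : ZMod 7, a ≠ 0 → N1 chevE7 7 x a = μ) :
    N1 chevE7 7 x 0 ∈ [12, 24, 30, 126] := by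
  obtain ⟨x', y', X, hr, hX, hmem⟩ := exists_list goodE7 alcE7 (ℓ := 7) (by norm_num) marksE7_spec x x
  have h1 := hist_eq goodE7 posTabE7 256 hX
  rw [hist7 (N1 chevE7 7 x') (μ := μ) (fun a ha => by rw [hr.N1_eq]; exact h a ha), hr.N1_eq] at h1
  have h2 := allIn_spec ratChk7 X hmem
  rw [← h1] at h2
  have h3 := N1_le chevE7 7 x 0
  have h4 := N1_le chevE7 7 x 1
  rw [h 1 (by decide)] at h4
  have e : chevE7.nroots = 126 := rfl
  exact ratChk_spec (by norm_num) (by norm_num) (by omega) (by omega) h2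

/-- rational toral elements of order `5` of `E₇` -/
theorem class5 (x : ℕ → ℤ) {μ : ℕ} (h : ∀ a : ZMod 5, a ≠ 0 → N1 chevE7 5 x a = μ) :
    N1 chevE7 5 x 0 ∈ [26, 126] := by
  obtain ⟨x', y', X, hr, hX, hmem⟩ := exists_list goodE7 alcE7 (ℓ := 5) (by norm_num) marksE7_spec x x
  have h1 := hist_eq goodE7 posTabE7 256 hX
  rw [hist5 (N1 chevE7 5 x') (μ := μ) (fun a ha => by rw [hr.N1_eq]; exact h a ha), hr.N1_eq] at h1
  have h2 := allIn_spec ratChk5 X hmem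
  rw [← h1] at h2
  have h3 := N1_le chevE7 5 x 0
  have h4 := N1_le chevE7 5 x 1
  rw [h 1 (by decide)] at h4
  have e : chevE7.nroots = 126 := rfl
  exact ratChk_spec (by norm_num) (by norm_num) (by omega) (by omega) h2

/-- toral elements of order `3` of `E₈` -/
theorem class3 (x : ℕ → ℤ) : N1 chevE8 3 x 0 ∈ [72, 78, 84, 126, 240] := by
  obtain ⟨x', y', X, hr, hX, hmem⟩ := exists_list goodE8 alcE8 (ℓ := 3) (by norm_num) marksE8_spec x x
  have h1 := hist_eq goodE8 posTabE8 256 hX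
  rw [sum_zmod3] at h1
  have e0 : (0 : ZMod 3).val = 0 := rfl
  have e1 : (1 : ZMod 3).val = 1 := rfl
  have e2 : (2 : ZMod 3).val = 2 := rfl
  rw [e0, e1, e2, hr.N1_eq] at h1
  have h2 := allIn_spec ratChk3 X hmem
  rw [← h1] at h2
  have h3 := N1_le chevE8 3 x 0
  have e : chevE8.nroots = 240 := rfl
  rw [List.any_eq_true] at h2
  obtain ⟨f, hf, hb⟩ := h2
  have h4 : (N1 chevE8 3 x 0 * 256 ^ 0 + N1 chevE8 3 x' 1 * 256 ^ 1 + N1 chevE8 3 x' 2 * 256 ^ 2) % 256 = f :=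
    Nat.eq_of_beq_eq_true hb
  have h5 : N1 chevE8 3 x 0 = f := by omega
  rw [h5]
  exact hf

end Cfsg.Agent.H186
end
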