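import Mathlib
import Cfsg.Prelude.Def_Classical
import Cfsg.Prelude.Def_LieClassical
import Cfsg.Agent.ClassicalGeometry.GUBasic
import Cfsg.Agent.ClassicalGeometry.SympBasic
import Cfsg.Agent.H186.Unitary
set_option linter.all false

-- part: H186/Emb
section
/-!
# Restriction of scalars from the field with `q²` elements to the field with `q` elements (helper186)

* `exists_ringHom` : `|K| = q²`, `|F| = q` ⟹ there is a ring homomorphism `i : F →+* K`;
* `Base i q` : `i : F →+* K`, `|K| = q²`, `|F| = q`; `Base.mem_range`, `Base.exists_coords`, `Base.exists_trace`,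
  `Base.exists_root` (roots of anisotropic forms);
* `resMat` : for an additive bijection `e : (ι → K) ≃+ (κ → F)`, semilinear along `i`, the injective homomorphism
  `Matrix ι ι K →* Matrix κ κ F` with `resMat M *ᵥ e v = e (M *ᵥ v)`;
* `exists_hom_isometry`, `exists_hom_symplectic` : the resulting embeddings of isometry groups.
-/

set_option autoImplicit false
open Cfsg Matrix

namespace Cfsg.Agent.H186

open Cfsg.Agent.ClassicalGeometry.GUBasic

section Res

variable {K F : Type*} [Field K] [Field F] (i : F →+* K) {ι κ : Type*} [Fintype ι] [DecidableEq ι] [Fintype κ]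
  [DecidableEq κ]

/-- The `F`-linear map of `κ → F` given by a matrix over `K`. -/
def resLin (e : (ι → K) ≃+ (κ → F)) (he : ∀ (c : F) (v : ι → K), e (i c • v) = c • e v) (M : Matrix ι ι K) :
    (κ → F) →ₗ[F] (κ → F) where
  toFun w := e (M *ᵥ e.symm w)
  map_add' u v := by rw [map_add, Matrix.mulVec_add, map_add]
  map_smul' c v := by
    have h : e.symm (c • v) = i c • e.symm v := by
      rw [AddEquiv.symm_apply_eq, he, AddEquiv.apply_symm_apply]
    rw [h, Matrix.mulVec_smul, he, RingHom.id_apply]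

/-- The matrix over `F` of the restriction of scalars of a matrix over `K`. -/
noncomputable def resMat (e : (ι → K) ≃+ (κ → F)) (he : ∀ (c : F) (v : ι → K), e (i c • v) = c • e v) :
    Matrix ι ι K →* Matrix κ κ F where
  toFun M := LinearMap.toMatrix' (resLin i e he M)
  map_one' := by
    have : resLin i e he 1 = LinearMap.id := by
      apply LinearMap.ext
      intro w
      change e ((1 : Matrix ι ι K) *ᵥ e.symm w) = w
      rw [Matrix.one_mulVec, AddEquiv.apply_symm_apply]
    rw [this, LinearMap.toMatrix'_id]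
  map_mul' M N := by
    rw [← LinearMap.toMatrix'_comp]
    congr 1
    apply LinearMap.ext
    intro w
    change e ((M * N) *ᵥ e.symm w) = e (M *ᵥ e.symm (e (N *ᵥ e.symm w)))
    rw [AddEquiv.symm_apply_apply, Matrix.mulVec_mulVec]

theorem resMat_mulVec (e : (ι → K) ≃+ (κ → F)) (he : ∀ (c : F) (v : ι → K), e (i c • v) = c • e v)
    (M : Matrix ι ι K) (v : ι → K) : resMat i e he M *ᵥ e v = e (M *ᵥ v) := by
  change LinearMap.toMatrix' (resLin i e he M) *ᵥ e v = _
  rw [LinearMap.toMatrix'_mulVec]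
  change e (M *ᵥ e.symm (e v)) = _
  rw [AddEquiv.symm_apply_apply]

theorem resMat_injective (e : (ι → K) ≃+ (κ → F)) (he : ∀ (c : F) (v : ι → K), e (i c • v) = c • e v) :
    Function.Injective (resMat i e he) := by
  intro M N h
  apply Matrix.ext_of_mulVec_single
  intro j
  apply e.injective
  rw [← resMat_mulVec i e he, ← resMat_mulVec i e he, h]

/-- Embedding of a matrix group over `K` into an isometry group over `F`. -/
theorem exists_hom_isometry {κ : Type} [Fintype κ] [DecidableEq κ] (e : (ι → K) ≃+ (κ → F))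
    (he : ∀ (c : F) (v : ι → K), e (i c • v) = c • e v)
    (H : Subgroup (GL ι K)) (Q : (κ → F) → F)
    (hQ : ∀ g ∈ H, ∀ v, Q (e ((g : Matrix ι ι K) *ᵥ v)) = Q (e v)) :
    ∃ φ : ↥H →* ↥(Cfsg.isometryGroup F Q), Function.Injective φ := by
  let Φ : GL ι K →* GL κ F := Units.map (resMat i e he)
  have hΦ : ∀ g : ↥H, Φ (g : GL ι K) ∈ Cfsg.isometryGroup F Q := by
    intro g u v
    change Q (resMat i e he ((g : GL ι K) : Matrix ι ι K) *ᵥ u) = Q u
    obtain ⟨w, rfl⟩ := e.surjective u
    rw [resMat_mulVec, hQ g g.2]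
  refine ⟨(Φ.comp H.subtype).codRestrict _ hΦ, ?_⟩
  intro a b h
  apply Subtype.ext
  apply Units.ext
  apply resMat_injective i e he
  have := congrArg (fun x : ↥(Cfsg.isometryGroup F Q) => ((x : GL κ F) : Matrix κ κ F)) h
  exact this

/-- Embedding of a matrix group over `K` into the symplectic group over `F`. -/
theorem exists_hom_symplectic {m : ℕ} (e : (ι → K) ≃+ (Fin m ⊕ Fin m → F))
    (he : ∀ (c : F) (v : ι → K), e (i c • v) = c • e v) {H : Type*} [Group H] (r : H →* Matrix ι ι K)
    (hr : Function.Injective r)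
    (hQ : ∀ (g : H) (u v : ι → K), sympForm m F (e (r g *ᵥ u)) (e (r g *ᵥ v)) = sympForm m F (e u) (e v)) :
    ∃ φ : H →* ↥(Matrix.symplecticGroup (Fin m) F), Function.Injective φ := by
  have hΦ : ∀ g : H, resMat i e he (r g) ∈ Matrix.symplecticGroup (Fin m) F := by
    intro g
    rw [Cfsg.Agent.ClassicalGeometry.SympBasic.mem_symplecticGroup_iff]
    intro u v
    obtain ⟨u, rfl⟩ := e.surjective u
    obtain ⟨v, rfl⟩ := e.surjective v
    rw [resMat_mulVec, resMat_mulVec, hQ]
  refine ⟨((resMat i e he).comp r).codRestrict (Matrix.symplecticGroup (Fin m) F) hΦ, ?_⟩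
  intro a b h
  apply hr
  apply resMat_injective i e he
  exact congrArg Subtype.val h

end Res

section Base

variable {K F : Type*} [Field K] [Fintype K] [Field F] [Fintype F] {q : ℕ}

/-- The field with `q` elements embeds in the field with `q²` elements. -/
theorem exists_ringHom (hK : Fintype.card K = q ^ 2) (hF : Fintype.card F = q) : Nonempty (F →+* K) := by
  obtain ⟨p, hp⟩ := CharP.exists F
  obtain ⟨n, hpp, hn⟩ := FiniteField.card F p
  haveI : Fact p.Prime := ⟨hpp⟩
  obtain ⟨p', hp'⟩ := CharP.exists K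
  obtain ⟨n', hpp', hn'⟩ := FiniteField.card K p'
  have hpeq : p = p' := by
    have h1 : p ∣ p' ^ (n' : ℕ) := by
      rw [← hn', hK, ← hF, hn]
      exact dvd_pow (dvd_pow_self p n.ne_zero) two_ne_zero
    exact (Nat.prime_dvd_prime_iff_eq hpp hpp').1 (hpp.dvd_of_dvd_pow h1)
  subst hpeq
  have hnn : (n' : ℕ) = 2 * n := by
    have : p ^ (n' : ℕ) = p ^ (2 * (n : ℕ)) := by
      rw [← hn', hK, ← hF, hn, ← pow_mul, mul_comm]
    exact Nat.pow_right_injective hpp.two_le this
  letI : Algebra (ZMod p) F := ZMod.algebra F p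
  letI : Algebra (ZMod p) K := ZMod.algebra K p
  have hf : Module.finrank (ZMod p) F = n := by
    have := Module.card_eq_pow_finrank (K := ZMod p) (V := F)
    rw [ZMod.card, hn] at this
    exact (Nat.pow_right_injective hpp.two_le this).symm
  have hk : Module.finrank (ZMod p) K = n' := by
    have := Module.card_eq_pow_finrank (K := ZMod p) (V := K)
    rw [ZMod.card, hn'] at this
    exact (Nat.pow_right_injective hpp.two_le this).symm
  have hdvd : Module.finrank (ZMod p) F ∣ Module.finrank (ZMod p) K := by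
    rw [hf, hk, hnn]; exact dvd_mul_left _ _
  obtain ⟨g⟩ := FiniteField.nonempty_algHom_of_finrank_dvd hdvd
  exact ⟨g.toRingHom⟩

/-- `F` is the field with `q` elements and `K` the field with `q²` elements, `i : F →+* K`. -/
structure Base (i : F →+* K) (q : ℕ) : Prop where
  cardK : Fintype.card K = q ^ 2
  cardF : Fintype.card F = q

variable {i : F →+* K}

theorem Base.pow_i (h : Base i q) (c : F) : (i c) ^ q = i c := by
  rw [← map_pow, ← h.cardF, FiniteField.pow_card]

theorem Base.two_le (h : Base i q) : 2 ≤ q := Cfsg.Agent.ClassicalGeometry.GUBasic.two_le h.cardK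

theorem Base.mem_range (h : Base i q) {z : K} (hz : z ^ q = z) : ∃ c : F, i c = z := by
  classical
  have hq := h.two_le
  have h1 : (Polynomial.X ^ q - Polynomial.X : Polynomial K) ≠ 0 :=
    FiniteField.X_pow_card_sub_X_ne_zero K (by omega)
  have h2 : Multiset.card (Polynomial.X ^ q - Polynomial.X : Polynomial K).roots ≤ q := by
    refine (Polynomial.card_roots' _).trans ?_
    rw [FiniteField.X_pow_card_sub_X_natDegree_eq K (by omega)]
  have hsub : (Finset.univ.image i) ⊆ (Polynomial.X ^ q - Polynomial.X : Polynomial K).roots.toFinset := by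
    intro x hx
    rw [Finset.mem_image] at hx
    obtain ⟨c, -, rfl⟩ := hx
    rw [Multiset.mem_toFinset, Polynomial.mem_roots h1]
    simp [h.pow_i c]
  have hcard : (Finset.univ.image i).card = q := by
    rw [Finset.card_image_of_injective _ i.injective, Finset.card_univ, h.cardF]
  have heq : (Finset.univ.image i) = (Polynomial.X ^ q - Polynomial.X : Polynomial K).roots.toFinset := by
    apply Finset.eq_of_subset_of_card_le hsub
    rw [hcard]
    exact (Multiset.toFinset_card_le _).trans h2
  have hz' : z ∈ (Polynomial.X ^ q - Polynomial.X : Polynomial K).roots.toFinset := by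
    rw [Multiset.mem_toFinset, Polynomial.mem_roots h1]
    simp [hz]
  rw [← heq, Finset.mem_image] at hz'
  obtain ⟨c, -, hc⟩ := hz'
  exact ⟨c, hc⟩

theorem Base.pow_pow (h : Base i q) (x : K) : (x ^ q) ^ q = x := by
  rw [← pow_mul, ← sq, ← h.cardK, FiniteField.pow_card]

/-- The trace as an additive map. -/
theorem Base.exists_trace (h : Base i q) : ∃ T : K →+ F, (∀ x, i (T x) = x + x ^ q) ∧
    ∀ c x, T (i c * x) = c * T x := by
  obtain ⟨σ, hσ⟩ := exists_powHom h.cardK
  have hex : ∀ x : K, ∃ c : F, i c = x + x ^ q := by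
    intro x
    apply h.mem_range
    rw [← hσ, map_add, hσ, hσ, h.pow_pow, add_comm]
  choose T hT using hex
  refine ⟨AddMonoidHom.mk' T ?_, hT, ?_⟩
  · intro a b
    apply i.injective
    rw [map_add, hT, hT, hT, ← hσ, ← hσ, ← hσ, map_add]
    ring
  · intro c x
    apply i.injective
    change i (T (i c * x)) = i (c * T x)
    rw [map_mul, hT, hT, mul_pow, h.pow_i]
    ring

/-- Coordinates with respect to the basis `1, ω`. -/
theorem Base.exists_coords (h : Base i q) {ω : K} (hω : ω ^ q ≠ ω) : ∃ A B : K →+ F,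
    (∀ x, x = i (A x) + i (B x) * ω) ∧ (∀ c x, A (i c * x) = c * A x) ∧ (∀ c x, B (i c * x) = c * B x) := by
  let f : F × F →+ K :=
    { toFun := fun z => i z.1 + i z.2 * ω
      map_zero' := by simp
      map_add' := by intro a b; simp only [Prod.fst_add, Prod.snd_add, map_add]; ring }
  have hf : ∀ z, f z = i z.1 + i z.2 * ω := fun _ => rfl
  have hinj : Function.Injective f := by
    rw [injective_iff_map_eq_zero]
    intro z hz
    rw [hf] at hz
    have h2 : z.2 = 0 := by
      by_contra hne
      apply hω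
      have h3 : ω = i (-z.1 / z.2) := by
        rw [map_div₀, map_neg, eq_div_iff (by rwa [Ne, map_eq_zero])]
        linear_combination hz
      rw [h3, h.pow_i]
    rw [h2, map_zero, zero_mul, add_zero, map_eq_zero] at hz
    exact Prod.ext hz h2
  have hbij : Function.Bijective f := by
    rw [Fintype.bijective_iff_injective_and_card]
    exact ⟨hinj, by rw [Fintype.card_prod, h.cardF, h.cardK, sq]⟩
  let E := AddEquiv.ofBijective f hbij
  have hE : ∀ x, f (E.symm x) = x := fun x => E.apply_symm_apply x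
  have hsm : ∀ c x, E.symm (i c * x) = c • E.symm x := by
    intro c x
    apply hinj
    rw [hE, hf]
    conv_lhs => rw [← hE x, hf]
    simp only [Prod.smul_fst, Prod.smul_snd, smul_eq_mul, map_mul]
    ring
  refine ⟨(AddMonoidHom.fst F F).comp E.symm.toAddMonoidHom, (AddMonoidHom.snd F F).comp E.symm.toAddMonoidHom,
    fun x => ?_, fun c x => ?_, fun c x => ?_⟩
  · have := hE x
    rw [hf] at this
    exact this.symm
  · change (E.symm (i c * x)).1 = c * (E.symm x).1
    rw [hsm]; rfl
  · change (E.symm (i c * x)).2 = c * (E.symm x).2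
    rw [hsm]; rfl

theorem Base.exists_ne (h : Base i q) : ∃ x : K, x ^ q ≠ x := by
  by_contra hcon
  push Not at hcon
  have hsurj : Function.Surjective i := fun z => h.mem_range (hcon z)
  have := Fintype.card_le_of_surjective _ hsurj
  rw [h.cardK, h.cardF] at this
  have := h.two_le
  nlinarith

/-- A root in `K` of the polynomial `X² - a X + b` attached to an anisotropic form. -/
theorem Base.exists_root (h : Base i q) (a b : F)
    (hab : ∀ z₁ z₂ : F, z₁ ^ 2 + a * z₁ * z₂ + b * z₂ ^ 2 = 0 → z₁ = 0 ∧ z₂ = 0) :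
    ∃ ω : K, ω ^ q ≠ ω ∧ ω + ω ^ q = i a ∧ ω * ω ^ q = i b := by
  classical
  have hnoroot : ∀ x : F, x ^ 2 - a * x + b ≠ 0 := by
    intro x hx
    have := (hab x (-1) (by linear_combination hx)).2
    exact one_ne_zero (neg_eq_zero.1 this)
  let P : Polynomial F := Polynomial.X ^ 2 - Polynomial.C a * Polynomial.X + Polynomial.C b
  have hPdeg : P.natDegree = 2 := by
    have : P = Polynomial.C 1 * Polynomial.X ^ 2 + Polynomial.C (-a) * Polynomial.X + Polynomial.C b := by
      simp only [P, map_one, map_neg]; ring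
    rw [this]
    exact Polynomial.natDegree_quadratic one_ne_zero
  have hPmonic : P.Monic := by
    have : P = Polynomial.X ^ 2 + (- (Polynomial.C a * Polynomial.X) + Polynomial.C b) := by
      simp only [P]; ring
    rw [this]
    apply Polynomial.monic_X_pow_add
    refine lt_of_le_of_lt (Polynomial.degree_add_le _ _) (max_lt ?_ ?_)
    · rw [Polynomial.degree_neg]
      refine lt_of_le_of_lt (Polynomial.degree_C_mul_X_le a) ?_
      norm_num
    · exact lt_of_le_of_lt Polynomial.degree_C_le (by norm_num)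
  have hPirr : Irreducible P := by
    rw [Polynomial.Monic.irreducible_iff_roots_eq_zero_of_degree_le_three hPmonic (by omega) (by omega)]
    rw [Multiset.eq_zero_iff_forall_notMem]
    intro x hx
    rw [Polynomial.mem_roots hPmonic.ne_zero] at hx
    apply hnoroot x
    have : Polynomial.eval x P = 0 := hx
    simpa [P] using this
  haveI : Fact (Irreducible P) := ⟨hPirr⟩
  letI : Algebra F K := i.toAlgebra
  have hL : Module.finrank F (AdjoinRoot P) = 2 := by
    rw [(AdjoinRoot.powerBasis hPmonic.ne_zero).finrank, AdjoinRoot.powerBasis_dim, hPdeg]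
  have hKr : Module.finrank F K = 2 := by
    have := Module.card_eq_pow_finrank (K := F) (V := K)
    rw [h.cardF, h.cardK] at this
    exact (Nat.pow_right_injective h.two_le this).symm
  haveI : FiniteDimensional F (AdjoinRoot P) := Module.finite_of_finrank_pos (by omega)
  haveI : Finite (AdjoinRoot P) := Module.finite_of_finite F
  obtain ⟨g⟩ := FiniteField.nonempty_algHom_of_finrank_dvd (F := F) (K := AdjoinRoot P) (L := K)
    (by rw [hL, hKr])
  obtain ⟨σ, hσ⟩ := exists_powHom h.cardK
  set ω : K := g (AdjoinRoot.root P) with hωdef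
  have hroot : ω ^ 2 - i a * ω + i b = 0 := by
    have h1 : Polynomial.aeval (AdjoinRoot.root P) P = 0 := by
      rw [Polynomial.aeval_def, AdjoinRoot.algebraMap_eq]; exact AdjoinRoot.eval₂_root P
    have h2 := congrArg g h1
    rw [map_zero, ← Polynomial.aeval_algHom_apply] at h2
    have h3 : Polynomial.aeval ω P = ω ^ 2 - i a * ω + i b := by
      simp only [P, map_add, map_sub, map_mul, map_pow, Polynomial.aeval_X, Polynomial.aeval_C]
      rfl
    rw [← h3]; exact h2
  have hne : ω ^ q ≠ ω := by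
    intro hω
    obtain ⟨c, hc⟩ := h.mem_range hω
    apply hnoroot c
    apply i.injective
    rw [map_add, map_sub, map_mul, map_pow, hc, map_zero]
    exact hroot
  have hroot' : (ω ^ q) ^ 2 - i a * ω ^ q + i b = 0 := by
    have := congrArg σ hroot
    rw [map_zero, map_add, map_sub, map_mul, map_pow, hσ ω, hσ (i a), hσ (i b), h.pow_i, h.pow_i] at this
    exact this
  have hsum : ω + ω ^ q = i a := by
    have h4 : (ω - ω ^ q) * (ω + ω ^ q - i a) = 0 := by linear_combination hroot - hroot'
    rcases mul_eq_zero.1 h4 with h5 | h5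
    · exact absurd (sub_eq_zero.1 h5).symm hne
    · exact sub_eq_zero.1 h5
  refine ⟨ω, hne, hsum, ?_⟩
  linear_combination ω * hsum - hroot

end Base

end Cfsg.Agent.H186
end

-- part: H186/EmbGU
section
/-!
# The unitary group over the field with `q²` elements inside symplectic and orthogonal groups over `F_q` (helper186)

* `gu_symplectic` (S2639), `gu_plus` (S2640), `gu_minus` (S2641).
-/

set_option autoImplicit false
open Cfsg Matrix

namespace Cfsg.Agent.H186

open Cfsg.Agent.ClassicalGeometry.GUBasic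

section Tools

variable {K F : Type*} [Field K] [Fintype K] [Field F] [Fintype F] {q : ℕ} {i : F →+* K}

/-- An injective additive map between coordinate spaces of the same cardinality is an equivalence. -/
noncomputable def mkEquiv {ι κ : Type*} [Fintype ι] [DecidableEq ι] [Fintype κ] [DecidableEq κ]
    (f : (ι → K) →+ (κ → F)) (hf : ∀ v, f v = 0 → v = 0)
    (hcard : Fintype.card K ^ Fintype.card ι = Fintype.card F ^ Fintype.card κ) : (ι → K) ≃+ (κ → F) :=
  AddEquiv.ofBijective f (by
    rw [Fintype.bijective_iff_injective_and_card]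
    refine ⟨(injective_iff_map_eq_zero f).2 hf, ?_⟩
    rw [Fintype.card_fun, Fintype.card_fun, hcard])

theorem mkEquiv_apply {ι κ : Type*} [Fintype ι] [DecidableEq ι] [Fintype κ] [DecidableEq κ]
    (f : (ι → K) →+ (κ → F)) (hf : ∀ v, f v = 0 → v = 0)
    (hcard : Fintype.card K ^ Fintype.card ι = Fintype.card F ^ Fintype.card κ) (v : ι → K) :
    mkEquiv f hf hcard v = f v := rfl

omit [Fintype K] in
theorem herm_invariant {n : ℕ} (g : GL (Fin n) K) (hg : g ∈ Cfsg.GU n K q) (u v : Fin n → K) :
    hermForm n K q ((g : Matrix (Fin n) (Fin n) K) *ᵥ u) ((g : Matrix (Fin n) (Fin n) K) *ᵥ v) =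
      hermForm n K q u v := (mem_GU_iff g).1 hg u v

/-- Elements of prescribed norm. -/
theorem Base.exists_norm_eq (h : Base i q) (c : F) (hc : c ≠ 0) : ∃ x : K, x * x ^ q = i c := by
  have h1 : IsUnit (Matrix.of (fun _ _ : Unit => i c)) := by
    rw [Matrix.isUnit_iff_isUnit_det]
    simpa using hc
  obtain ⟨d, -, -, hd⟩ := exists_st_mul (ι := Unit) h.cardK (Matrix.of (fun _ _ : Unit => i c)) h1 (by
    ext a b
    simp [st_apply, h.pow_i])
  refine ⟨d () (), ?_⟩
  have := congrFun (congrFun hd ()) ()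
  rw [Matrix.mul_apply] at this
  simp only [Finset.univ_unique, PUnit.default_eq_unit, Finset.sum_singleton, st_apply, Matrix.of_apply] at this
  rw [mul_comm, this]

theorem Base.exists_tr_one (h : Base i q) : ∃ x : K, x + x ^ q = 1 := by
  obtain ⟨ω, hω⟩ := h.exists_ne
  obtain ⟨σ, hσ⟩ := exists_powHom h.cardK
  have h1 : ω ^ q - ω ≠ 0 := sub_ne_zero.2 hω
  refine ⟨ω ^ q / (ω ^ q - ω), ?_⟩
  have h2 : (ω ^ q / (ω ^ q - ω)) ^ q = ω / (ω - ω ^ q) := by
    rw [← hσ, map_div₀, map_sub, hσ, hσ, h.pow_pow]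
  rw [h2]
  have h3 : ω - ω ^ q ≠ 0 := by
    intro h4; apply h1; rw [← neg_eq_zero, neg_sub, h4]
  field_simp
  ring

/-- The quadratic form `N(u) + N(w)` on `K²` is the hyperbolic form of rank four. -/
theorem Base.exists_pair (h : Base i q) : ∃ P : Fin 4 → (K × K →+ F),
    (∀ t (c : F) (z : K × K), P t (i c * z.1, i c * z.2) = c * P t z) ∧
    (∀ u w, u * u ^ q + w * w ^ q = i (P 0 (u, w) * P 2 (u, w) + P 1 (u, w) * P 3 (u, w))) ∧
    (∀ u w, (∀ t, P t (u, w) = 0) → u = 0 ∧ w = 0) := by
  obtain ⟨ω, hω⟩ := h.exists_ne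
  obtain ⟨A, B, hAB, hA, hB⟩ := h.exists_coords hω
  obtain ⟨T, hT, hT'⟩ := h.exists_trace
  obtain ⟨σ, hσ⟩ := exists_powHom h.cardK
  obtain ⟨l, hl⟩ := h.exists_norm_eq (-1) (by simp)
  rw [map_neg, map_one] at hl
  obtain ⟨τ, hτ⟩ := h.exists_tr_one
  have hl0 : l ^ q ≠ 0 := by
    intro h0
    rw [h0, mul_zero] at hl
    exact one_ne_zero (neg_eq_zero.1 hl.symm)
  -- `y = u + l^q w`, `x = u - τ y`
  let Y : K × K →+ K := AddMonoidHom.mk' (fun z => z.1 + l ^ q * z.2) (by
    intro a b; simp only [Prod.fst_add, Prod.snd_add]; ring)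
  let X : K × K →+ K := AddMonoidHom.mk' (fun z => z.1 - τ * (z.1 + l ^ q * z.2)) (by
    intro a b; simp only [Prod.fst_add, Prod.snd_add]; ring)
  have hY : ∀ z, Y z = z.1 + l ^ q * z.2 := fun _ => rfl
  have hX : ∀ z, X z = z.1 - τ * (z.1 + l ^ q * z.2) := fun _ => rfl
  let M : K →+ K := AddMonoidHom.mulLeft (ω ^ q)
  have hM : ∀ z, M z = ω ^ q * z := fun _ => rfl
  refine ⟨![A.comp X, B.comp X, T.comp Y, (T.comp M).comp Y], ?_, ?_, ?_⟩
  · intro t c z
    have hXc : X (i c * z.1, i c * z.2) = i c * X z := by rw [hX, hX]; ring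
    have hYc : Y (i c * z.1, i c * z.2) = i c * Y z := by rw [hY, hY]; ring
    fin_cases t
    · change A (X (i c * z.1, i c * z.2)) = c * A (X z)
      rw [hXc, hA]
    · change B (X (i c * z.1, i c * z.2)) = c * B (X z)
      rw [hXc, hB]
    · change T (Y (i c * z.1, i c * z.2)) = c * T (Y z)
      rw [hYc, hT']
    · change T (M (Y (i c * z.1, i c * z.2))) = c * T (M (Y z))
      rw [hYc, hM, hM, ← hT']
      congr 1; ring
  · intro u w
    change _ = i (A (X (u, w)) * T (Y (u, w)) + B (X (u, w)) * T (M (Y (u, w))))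
    set x := X (u, w) with hx
    set y := Y (u, w) with hy
    have hx' : x = i (A x) + i (B x) * ω := hAB x
    have hxq : x ^ q = i (A x) + i (B x) * ω ^ q := by
      conv_lhs => rw [hx', ← hσ]
      rw [map_add, map_mul, hσ, hσ, hσ, h.pow_i, h.pow_i]
    have hyu : y = u + l ^ q * w := by rw [hy, hY]
    have hxu : x = u - τ * y := by rw [hx, hX, hyu]
    have hyq : y ^ q = u ^ q + l * w ^ q := by
      rw [hyu, ← hσ, map_add, map_mul, hσ, hσ, hσ, h.pow_pow]
    have hxq2 : x ^ q = u ^ q - τ ^ q * y ^ q := by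
      rw [hxu, ← hσ, map_sub, map_mul, hσ, hσ, hσ]
    have hMy : (ω ^ q * y) ^ q = ω * y ^ q := by rw [mul_pow, h.pow_pow]
    rw [map_add, map_mul, map_mul, hT, hT, hM, hMy]
    have h1 : i (A x) * (y + y ^ q) + i (B x) * (ω ^ q * y + ω * y ^ q) = x * y ^ q + x ^ q * y := by
      rw [hxq]
      conv_rhs => rw [hx']
      have h2 : i (A (i (A x) + i (B x) * ω)) = i (A x) := by rw [← hx']
      have h3 : i (B (i (A x) + i (B x) * ω)) = i (B x) := by rw [← hx']
      rw [h2, h3]
      ring
    rw [h1, hxq2, hxu]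
    have hττ : τ ^ q = 1 - τ := by linear_combination hτ
    rw [hττ, hyq, hyu]
    linear_combination (w * w ^ q) * hl
  · intro u w hz
    have h0 : A (X (u, w)) = 0 := hz 0
    have h1 : B (X (u, w)) = 0 := hz 1
    have h2 : T (Y (u, w)) = 0 := hz 2
    have h3 : T (M (Y (u, w))) = 0 := hz 3
    have hx0 : X (u, w) = 0 := by rw [hAB (X (u, w)), h0, h1, map_zero, zero_mul, add_zero]
    have hy0 : Y (u, w) = 0 := by
      have h4 := hT (Y (u, w))
      have h5 := hT (M (Y (u, w)))
      rw [h2, map_zero] at h4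
      rw [h3, map_zero, hM, mul_pow, h.pow_pow] at h5
      have h6 : (ω ^ q - ω) * Y (u, w) = 0 := by linear_combination ω * h4 - h5
      exact (mul_eq_zero.1 h6).resolve_left (sub_ne_zero.2 hω)
    have hu : u = 0 := by
      have h6 : X (u, w) = u - τ * Y (u, w) := by rw [hX, hY]
      rw [hx0, hy0, mul_zero, sub_zero] at h6
      exact h6.symm
    refine ⟨hu, ?_⟩
    rw [hY, hu, zero_add] at hy0
    exact (mul_eq_zero.1 hy0).resolve_left hl0

end Tools

section Main

variable {K F : Type*} [Field K] [Fintype K] [Field F] [Fintype F] {q : ℕ}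

/-- Statement S2639. -/
theorem gu_symplectic (hK : Fintype.card K = q ^ 2) (hF : Fintype.card F = q) (m : ℕ) :
    ∃ φ : ↥(Cfsg.GU m K q) →* ↥(Matrix.symplecticGroup (Fin m) F), Function.Injective φ := by
  obtain ⟨i⟩ := exists_ringHom hK hF
  have h : Base i q := ⟨hK, hF⟩
  obtain ⟨ω, hω⟩ := h.exists_ne
  obtain ⟨A, B, hAB, hA, hB⟩ := h.exists_coords hω
  obtain ⟨σ, hσ⟩ := exists_powHom hK
  have hBz : ∀ z, i (B z) * (ω - ω ^ q) = z - z ^ q := by
    intro z
    have h1 : z ^ q = i (A z) + i (B z) * ω ^ q := by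
      conv_lhs => rw [hAB z, ← hσ]
      rw [map_add, map_mul, hσ, hσ, hσ, h.pow_i, h.pow_i]
    rw [h1]
    conv_rhs => rw [hAB z]
    have h2 : i (A (i (A z) + i (B z) * ω)) = i (A z) := by rw [← hAB z]
    have h3 : i (B (i (A z) + i (B z) * ω)) = i (B z) := by rw [← hAB z]
    rw [h2, h3]
    ring
  have hBuv : ∀ u v : K, B (u * v ^ q) = B u * A v - A u * B v := by
    intro u v
    apply i.injective
    have hne : ω - ω ^ q ≠ 0 := sub_ne_zero.2 (Ne.symm hω)
    apply mul_right_cancel₀ hne
    rw [hBz, mul_pow, h.pow_pow, map_sub, map_mul, map_mul]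
    have huq : u ^ q = i (A u) + i (B u) * ω ^ q := by
      have := hBz u
      linear_combination hAB u + this
    have hvq : v ^ q = i (A v) + i (B v) * ω ^ q := by
      have := hBz v
      linear_combination hAB v + this
    rw [huq, hvq]
    have hu := hAB u
    have hv := hAB v
    generalize i (A u) = au at *
    generalize i (B u) = bu at *
    generalize i (A v) = av at *
    generalize i (B v) = bv at *
    rw [hu, hv]
    ring
  let f : (Fin m → K) →+ (Fin m ⊕ Fin m → F) := AddMonoidHom.mk'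
    (fun v => Sum.elim (fun j => A (v j)) (fun j => B (v j))) (by
      intro a b
      funext j
      rcases j with j | j <;> simp)
  have hf : ∀ v, f v = Sum.elim (fun j => A (v j)) (fun j => B (v j)) := fun _ => rfl
  have hf0 : ∀ v, f v = 0 → v = 0 := by
    intro v hv
    funext j
    have h1 : A (v j) = 0 := congrFun hv (Sum.inl j)
    have h2 : B (v j) = 0 := congrFun hv (Sum.inr j)
    rw [hAB (v j), h1, h2, map_zero, zero_mul, add_zero]
    rfl
  have hcard : Fintype.card K ^ Fintype.card (Fin m) = Fintype.card F ^ Fintype.card (Fin m ⊕ Fin m) := by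
    rw [Fintype.card_fin, Fintype.card_sum, Fintype.card_fin, hK, hF, ← pow_mul]
    congr 1
    omega
  refine exists_hom_symplectic i (mkEquiv f hf0 hcard) ?_
    ((Units.coeHom (Matrix (Fin m) (Fin m) K)).comp (Cfsg.GU m K q).subtype) ?_ ?_
  · intro c v
    rw [mkEquiv_apply, mkEquiv_apply, hf, hf]
    funext j
    rcases j with j | j
    · simp only [Sum.elim_inl, Pi.smul_apply, smul_eq_mul, hA]
    · simp only [Sum.elim_inr, Pi.smul_apply, smul_eq_mul, hB]
  · intro a b hab
    exact Subtype.ext (Units.ext hab)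
  · intro g u v
    have key : ∀ u v : Fin m → K, sympForm m F (mkEquiv f hf0 hcard u) (mkEquiv f hf0 hcard v) =
        B (hermForm m K q u v) := by
      intro u v
      rw [mkEquiv_apply, mkEquiv_apply, Cfsg.Agent.ClassicalGeometry.SympBasic.sympForm_eq_sum, hf, hf,
        hermForm_apply, map_sum]
      refine Finset.sum_congr rfl fun j _ => ?_
      rw [hBuv]
      rfl
    rw [key, key]
    congr 1
    exact herm_invariant (g : GL (Fin m) K) g.2 u v

/-- Statement S2640. -/
theorem gu_plus (hK : Fintype.card K = q ^ 2) (hF : Fintype.card F = q) (m : ℕ) (hm : Even m) :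
    ∃ φ : ↥(Cfsg.GU m K q) →* ↥(Cfsg.isometryGroup F (Cfsg.quadFormPlus m F)), Function.Injective φ := by
  obtain ⟨i⟩ := exists_ringHom hK hF
  have h : Base i q := ⟨hK, hF⟩
  obtain ⟨P, hPs, hPq, hP0⟩ := h.exists_pair
  obtain ⟨k, rfl⟩ := hm
  let ε : Fin k ⊕ Fin k ≃ Fin (k + k) := finSumFinEquiv
  let f : (Fin (k + k) → K) →+ (Fin (k + k) ⊕ Fin (k + k) → F) := AddMonoidHom.mk'
    (fun v => Sum.elim
      (fun t => Sum.elim (fun j => P 0 (v (ε (Sum.inl j)), v (ε (Sum.inr j))))
        (fun j => P 1 (v (ε (Sum.inl j)), v (ε (Sum.inr j)))) (ε.symm t))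
      (fun t => Sum.elim (fun j => P 2 (v (ε (Sum.inl j)), v (ε (Sum.inr j))))
        (fun j => P 3 (v (ε (Sum.inl j)), v (ε (Sum.inr j)))) (ε.symm t))) (by
      intro a b
      funext t
      have hadd : ∀ (s : Fin 4) (x y z w : K), P s (x + y, z + w) = P s (x, z) + P s (y, w) := by
        intro s x y z w
        rw [← map_add]; rfl
      rcases t with t | t
      · simp only [Sum.elim_inl, Pi.add_apply]
        rcases ε.symm t with j | j
        · simp only [Sum.elim_inl, hadd]
        · simp only [Sum.elim_inr, hadd]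
      · simp only [Sum.elim_inr, Pi.add_apply]
        rcases ε.symm t with j | j
        · simp only [Sum.elim_inl, hadd]
        · simp only [Sum.elim_inr, hadd])
  have hf0' : ∀ v j, f v (Sum.inl (ε (Sum.inl j))) = P 0 (v (ε (Sum.inl j)), v (ε (Sum.inr j))) := by
    intro v j
    change Sum.elim _ _ (ε.symm (ε (Sum.inl j))) = _
    rw [Equiv.symm_apply_apply]; rfl
  have hf1 : ∀ v j, f v (Sum.inl (ε (Sum.inr j))) = P 1 (v (ε (Sum.inl j)), v (ε (Sum.inr j))) := by
    intro v j
    change Sum.elim _ _ (ε.symm (ε (Sum.inr j))) = _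
    rw [Equiv.symm_apply_apply]; rfl
  have hf2 : ∀ v j, f v (Sum.inr (ε (Sum.inl j))) = P 2 (v (ε (Sum.inl j)), v (ε (Sum.inr j))) := by
    intro v j
    change Sum.elim _ _ (ε.symm (ε (Sum.inl j))) = _
    rw [Equiv.symm_apply_apply]; rfl
  have hf3 : ∀ v j, f v (Sum.inr (ε (Sum.inr j))) = P 3 (v (ε (Sum.inl j)), v (ε (Sum.inr j))) := by
    intro v j
    change Sum.elim _ _ (ε.symm (ε (Sum.inr j))) = _
    rw [Equiv.symm_apply_apply]; rfl
  have hinj : ∀ v, f v = 0 → v = 0 := by
    intro v hv
    have hz : ∀ j, v (ε (Sum.inl j)) = 0 ∧ v (ε (Sum.inr j)) = 0 := by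
      intro j
      apply hP0
      intro t
      fin_cases t
      · have := congrFun hv (Sum.inl (ε (Sum.inl j))); rwa [hf0'] at this
      · have := congrFun hv (Sum.inl (ε (Sum.inr j))); rwa [hf1] at this
      · have := congrFun hv (Sum.inr (ε (Sum.inl j))); rwa [hf2] at this
      · have := congrFun hv (Sum.inr (ε (Sum.inr j))); rwa [hf3] at this
    funext t
    obtain ⟨s, rfl⟩ := ε.surjective t
    rcases s with j | j
    · exact (hz j).1
    · exact (hz j).2
  have hcard : Fintype.card K ^ Fintype.card (Fin (k + k)) =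
      Fintype.card F ^ Fintype.card (Fin (k + k) ⊕ Fin (k + k)) := by
    rw [Fintype.card_fin, Fintype.card_sum, Fintype.card_fin, hK, hF, ← pow_mul]
    congr 1
    omega
  refine exists_hom_isometry i (mkEquiv f hinj hcard) ?_ _ _ ?_
  · intro c v
    rw [mkEquiv_apply, mkEquiv_apply]
    funext t
    have hsm : ∀ (s : Fin 4) (x y : K), P s (i c * x, i c * y) = c * P s (x, y) := fun s x y => hPs s c (x, y)
    rcases t with t | t
    · obtain ⟨s, rfl⟩ := ε.surjective t
      rcases s with j | j
      · rw [Pi.smul_apply, smul_eq_mul, hf0', hf0']; exact hsm _ _ _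
      · rw [Pi.smul_apply, smul_eq_mul, hf1, hf1]; exact hsm _ _ _
    · obtain ⟨s, rfl⟩ := ε.surjective t
      rcases s with j | j
      · rw [Pi.smul_apply, smul_eq_mul, hf2, hf2]; exact hsm _ _ _
      · rw [Pi.smul_apply, smul_eq_mul, hf3, hf3]; exact hsm _ _ _
  · intro g hg v
    have key : ∀ v : Fin (k + k) → K, i (Cfsg.quadFormPlus (k + k) F (mkEquiv f hinj hcard v)) =
        hermForm (k + k) K q v v := by
      intro v
      rw [mkEquiv_apply, hermForm_apply, Cfsg.quadFormPlus, ← ε.sum_comp, ← ε.sum_comp, Fintype.sum_sum_type,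
        Fintype.sum_sum_type, ← Finset.sum_add_distrib, ← Finset.sum_add_distrib, map_sum]
      refine Finset.sum_congr rfl fun j _ => ?_
      rw [hf0', hf1, hf2, hf3, ← hPq]
    apply i.injective
    rw [key, key]
    exact herm_invariant g hg v v

/-- Statement S2641. -/
theorem gu_minus (hK : Fintype.card K = q ^ 2) (hF : Fintype.card F = q) (m : ℕ) (hm : Odd m) (a b : F)
    (hab : ∀ z₁ z₂ : F, z₁ ^ 2 + a * z₁ * z₂ + b * z₂ ^ 2 = 0 → z₁ = 0 ∧ z₂ = 0) :
    ∃ φ : ↥(Cfsg.GU m K q) →* ↥(Cfsg.isometryGroup F (Cfsg.quadFormMinus (m - 1) F a b)),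
      Function.Injective φ := by
  obtain ⟨i⟩ := exists_ringHom hK hF
  have h : Base i q := ⟨hK, hF⟩
  obtain ⟨P, hPs, hPq, hP0⟩ := h.exists_pair
  obtain ⟨ω, hω, hωs, hωp⟩ := h.exists_root a b hab
  obtain ⟨A, B, hAB, hA, hB⟩ := h.exists_coords hω
  obtain ⟨σ, hσ⟩ := exists_powHom hK
  have hN : ∀ z : K, z * z ^ q = i (A z ^ 2 + a * A z * B z + b * B z ^ 2) := by
    intro z
    have h1 : z ^ q = i (A z) + i (B z) * ω ^ q := by
      conv_lhs => rw [hAB z, ← hσ]
      rw [map_add, map_mul, hσ, hσ, hσ, h.pow_i, h.pow_i]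
    rw [h1]
    have h2 := hAB z
    simp only [map_add, map_mul, map_pow]
    generalize i (A z) = az at *
    generalize i (B z) = bz at *
    rw [h2, ← hωs, ← hωp]
    ring
  obtain ⟨k, rfl⟩ : ∃ k, m = k + k + 1 := by
    obtain ⟨k, hk⟩ := hm
    exact ⟨k, by omega⟩
  have hm1 : k + k + 1 - 1 = k + k := by omega
  rw [hm1]
  let ε : Fin k ⊕ Fin k ≃ Fin (k + k) := finSumFinEquiv
  let f : (Fin (k + k + 1) → K) →+ ((Fin (k + k) ⊕ Fin (k + k)) ⊕ Fin 2 → F) := AddMonoidHom.mk'
    (fun v => Sum.elim (Sum.elim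
      (fun t => Sum.elim (fun j => P 0 (v (ε (Sum.inl j)).castSucc, v (ε (Sum.inr j)).castSucc))
        (fun j => P 1 (v (ε (Sum.inl j)).castSucc, v (ε (Sum.inr j)).castSucc)) (ε.symm t))
      (fun t => Sum.elim (fun j => P 2 (v (ε (Sum.inl j)).castSucc, v (ε (Sum.inr j)).castSucc))
        (fun j => P 3 (v (ε (Sum.inl j)).castSucc, v (ε (Sum.inr j)).castSucc)) (ε.symm t)))
      ![A (v (Fin.last _)), B (v (Fin.last _))]) (by
      intro a b
      funext t
      have hadd : ∀ (s : Fin 4) (x y z w : K), P s (x + y, z + w) = P s (x, z) + P s (y, w) := by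
        intro s x y z w
        rw [← map_add]; rfl
      rcases t with (t | t) | t
      · simp only [Sum.elim_inl, Pi.add_apply]
        rcases ε.symm t with j | j
        · simp only [Sum.elim_inl, hadd]
        · simp only [Sum.elim_inr, hadd]
      · simp only [Sum.elim_inl, Sum.elim_inr, Pi.add_apply]
        rcases ε.symm t with j | j
        · simp only [Sum.elim_inl, hadd]
        · simp only [Sum.elim_inr, hadd]
      · fin_cases t <;> simp)
  have hf0' : ∀ v j, f v (Sum.inl (Sum.inl (ε (Sum.inl j)))) =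
      P 0 (v (ε (Sum.inl j)).castSucc, v (ε (Sum.inr j)).castSucc) := by
    intro v j
    change Sum.elim _ _ (ε.symm (ε (Sum.inl j))) = _
    rw [Equiv.symm_apply_apply]; rfl
  have hf1 : ∀ v j, f v (Sum.inl (Sum.inl (ε (Sum.inr j)))) =
      P 1 (v (ε (Sum.inl j)).castSucc, v (ε (Sum.inr j)).castSucc) := by
    intro v j
    change Sum.elim _ _ (ε.symm (ε (Sum.inr j))) = _
    rw [Equiv.symm_apply_apply]; rfl
  have hf2 : ∀ v j, f v (Sum.inl (Sum.inr (ε (Sum.inl j)))) =
      P 2 (v (ε (Sum.inl j)).castSucc, v (ε (Sum.inr j)).castSucc) := by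
    intro v j
    change Sum.elim _ _ (ε.symm (ε (Sum.inl j))) = _
    rw [Equiv.symm_apply_apply]; rfl
  have hf3 : ∀ v j, f v (Sum.inl (Sum.inr (ε (Sum.inr j)))) =
      P 3 (v (ε (Sum.inl j)).castSucc, v (ε (Sum.inr j)).castSucc) := by
    intro v j
    change Sum.elim _ _ (ε.symm (ε (Sum.inr j))) = _
    rw [Equiv.symm_apply_apply]; rfl
  have hf4 : ∀ v, f v (Sum.inr 0) = A (v (Fin.last _)) := fun v => rfl
  have hf5 : ∀ v, f v (Sum.inr 1) = B (v (Fin.last _)) := fun v => rfl
  have hinj : ∀ v, f v = 0 → v = 0 := by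
    intro v hv
    have hz : ∀ j, v (ε (Sum.inl j)).castSucc = 0 ∧ v (ε (Sum.inr j)).castSucc = 0 := by
      intro j
      apply hP0
      intro t
      fin_cases t
      · have := congrFun hv (Sum.inl (Sum.inl (ε (Sum.inl j)))); rwa [hf0'] at this
      · have := congrFun hv (Sum.inl (Sum.inl (ε (Sum.inr j)))); rwa [hf1] at this
      · have := congrFun hv (Sum.inl (Sum.inr (ε (Sum.inl j)))); rwa [hf2] at this
      · have := congrFun hv (Sum.inl (Sum.inr (ε (Sum.inr j)))); rwa [hf3] at this
    funext t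
    refine Fin.lastCases ?_ (fun t => ?_) t
    · have h1 := congrFun hv (Sum.inr 0)
      have h2 := congrFun hv (Sum.inr 1)
      rw [hf4] at h1
      rw [hf5] at h2
      rw [hAB (v (Fin.last _)), h1, h2]
      simp
    · obtain ⟨s, rfl⟩ := ε.surjective t
      rcases s with j | j
      · exact (hz j).1
      · exact (hz j).2
  have hcard : Fintype.card K ^ Fintype.card (Fin (k + k + 1)) =
      Fintype.card F ^ Fintype.card ((Fin (k + k) ⊕ Fin (k + k)) ⊕ Fin 2) := by
    simp only [Fintype.card_fin, Fintype.card_sum]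
    rw [hK, hF, ← pow_mul]
    congr 1
    omega
  refine exists_hom_isometry i (mkEquiv f hinj hcard) ?_ _ _ ?_
  · intro c v
    rw [mkEquiv_apply, mkEquiv_apply]
    funext t
    have hsm : ∀ (s : Fin 4) (x y : K), P s (i c * x, i c * y) = c * P s (x, y) := fun s x y => hPs s c (x, y)
    rcases t with (t | t) | t
    · obtain ⟨s, rfl⟩ := ε.surjective t
      rcases s with j | j
      · rw [Pi.smul_apply, smul_eq_mul, hf0', hf0']; exact hsm _ _ _
      · rw [Pi.smul_apply, smul_eq_mul, hf1, hf1]; exact hsm _ _ _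
    · obtain ⟨s, rfl⟩ := ε.surjective t
      rcases s with j | j
      · rw [Pi.smul_apply, smul_eq_mul, hf2, hf2]; exact hsm _ _ _
      · rw [Pi.smul_apply, smul_eq_mul, hf3, hf3]; exact hsm _ _ _
    · fin_cases t
      · exact hA c _
      · exact hB c _
  · intro g hg v
    have key : ∀ v : Fin (k + k + 1) → K, i (Cfsg.quadFormMinus (k + k) F a b (mkEquiv f hinj hcard v)) =
        hermForm (k + k + 1) K q v v := by
      intro v
      rw [mkEquiv_apply, hermForm_apply, Cfsg.quadFormMinus, Fin.sum_univ_castSucc, ← ε.sum_comp, ← ε.sum_comp,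
        Fintype.sum_sum_type, Fintype.sum_sum_type, ← Finset.sum_add_distrib, ← Finset.sum_add_distrib, map_add,
        map_sum, hf4, hf5, ← hN]
      congr 1
      refine Finset.sum_congr rfl fun j _ => ?_
      rw [hf0', hf1, hf2, hf3, ← hPq]
    apply i.injective
    rw [key, key]
    exact herm_invariant g hg v v

end Main

end Cfsg.Agent.H186
end
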