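import Cfsg.Agent.H186.ExcClass
import Cfsg.Agent.H186.FusEmb
import Cfsg.Agent.H191.DiagCount
import Cfsg.Agent.S1039
import Cfsg.Agent.S1093
set_option linter.all false

-- part: H186/ExcBlock
section
/-!
# Elementary abelian groups generated by disjoint `ℓ`-cycles, and counts of torus elements (helper186)

* `tau k ℓ : Multiplicative (Fin k → ZMod ℓ) →* A_{kℓ}` ;
* `tau_conj` : two elements which are conjugate by a block-monomial permutation are conjugate in the alternating group;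
* `ent_count` : conjugate torus elements have the same numbers of entries;
* `inversion` : the double counting formula for the multiplicity of a weight.
-/

set_option autoImplicit false

namespace Cfsg.Agent.H186

open Cfsg.Lie Cfsg.Agent.ChevalleyStructure Cfsg.Agent.ChevalleyStructure.Elts
  Cfsg.Agent.ChevalleyStructure.NPerm Cfsg.Agent.H190 Equiv

universe u

/-! ### conjugation in the alternating group -/

theorem isConj_alt {n : ℕ} {a b : ↥(alternatingGroup (Fin n))} {ρ κ : Perm (Fin n)}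
    (hρ : ρ * (a : Perm (Fin n)) * ρ⁻¹ = b) (hκ : κ * (a : Perm (Fin n)) = (a : Perm (Fin n)) * κ)
    (hs : Perm.sign κ = -1) : ∃ g : ↥(alternatingGroup (Fin n)), g * a * g⁻¹ = b := by
  rcases Int.units_eq_one_or (Perm.sign ρ) with h | h
  · exact ⟨⟨ρ, Perm.mem_alternatingGroup.2 h⟩, Subtype.ext hρ⟩
  · refine ⟨⟨ρ * κ, Perm.mem_alternatingGroup.2 ?_⟩, Subtype.ext ?_⟩
    · rw [map_mul, h, hs]; rfl
    · show ρ * κ * (a : Perm (Fin n)) * (ρ * κ)⁻¹ = b
      rw [← hρ, mul_inv_rev, mul_assoc ρ κ, hκ]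
      group

/-! ### block permutations -/

section Block

variable (k ℓ : ℕ) [NeZero ℓ]

/-- translation by `v b` on the block `b` -/
def trn (v : Fin k → ZMod ℓ) : Perm (Fin k × ZMod ℓ) where
  toFun p := (p.1, p.2 + v p.1)
  invFun p := (p.1, p.2 - v p.1)
  left_inv p := by simp
  right_inv p := by simp

/-- scaling by units on the blocks -/
def scl (c : Fin k → (ZMod ℓ)ˣ) : Perm (Fin k × ZMod ℓ) where
  toFun p := (p.1, c p.1 * p.2)
  invFun p := (p.1, ((c p.1)⁻¹ : (ZMod ℓ)ˣ) * p.2)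
  left_inv p := by simp
  right_inv p := by simp

/-- permutation of the blocks -/
def blk (π : Perm (Fin k)) : Perm (Fin k × ZMod ℓ) := Equiv.prodCongr π (Equiv.refl _)

variable {k ℓ}

theorem trn_mul (v w : Fin k → ZMod ℓ) : trn k ℓ (v + w) = trn k ℓ v * trn k ℓ w := by
  ext p
  · rfl
  · show p.2 + (v + w) p.1 = p.2 + w p.1 + v p.1
    rw [Pi.add_apply]; ring

theorem trn_zero : trn k ℓ 0 = 1 := by
  ext p
  · rfl
  · show p.2 + (0 : Fin k → ZMod ℓ) p.1 = p.2
    rw [Pi.zero_apply, add_zero]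

theorem scl_conj (c : Fin k → (ZMod ℓ)ˣ) (v : Fin k → ZMod ℓ) :
    scl k ℓ c * trn k ℓ v * (scl k ℓ c)⁻¹ = trn k ℓ (fun b => c b * v b) := by
  rw [mul_inv_eq_iff_eq_mul]
  ext p
  · rfl
  · show (c p.1 : ZMod ℓ) * (p.2 + v p.1) = c p.1 * p.2 + c p.1 * v p.1
    ring

theorem blk_conj (π : Perm (Fin k)) (v : Fin k → ZMod ℓ) :
    blk k ℓ π * trn k ℓ v * (blk k ℓ π)⁻¹ = trn k ℓ (fun b => v (π.symm b)) := by
  rw [mul_inv_eq_iff_eq_mul]
  ext p
  · rfl
  · show p.2 + v p.1 = p.2 + v (π.symm (π p.1))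
    rw [Equiv.symm_apply_apply]

/-- the identification of the points -/
def ptE (k ℓ : ℕ) [NeZero ℓ] : Fin k × ZMod ℓ ≃ Fin (k * ℓ) :=
  (Equiv.prodCongr (Equiv.refl _) (ZMod.finEquiv ℓ).symm.toEquiv).trans finProdFinEquiv

/-- the permutation of `Fin (k ℓ)` -/
def onF (k ℓ : ℕ) [NeZero ℓ] : Perm (Fin k × ZMod ℓ) ≃* Perm (Fin (k * ℓ)) := (ptE k ℓ).permCongrHom

theorem sign_onF (k ℓ : ℕ) [NeZero ℓ] (f : Perm (Fin k × ZMod ℓ)) : Perm.sign (onF k ℓ f) = Perm.sign f :=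
  Perm.sign_permCongr (ptE k ℓ) f

theorem sign_trn (hodd : Odd ℓ) (v : Fin k → ZMod ℓ) : Perm.sign (trn k ℓ v) = 1 := by
  have h1 : ∀ m : ℕ, trn k ℓ v ^ m = trn k ℓ (m • v) := by
    intro m
    induction m with
    | zero => rw [pow_zero, zero_smul, trn_zero]
    | succ m ih => rw [pow_succ, ih, succ_nsmul, trn_mul]
  have h2 : trn k ℓ v ^ ℓ = 1 := by
    rw [h1, ← trn_zero]
    congr 1
    funext b
    rw [Pi.smul_apply, Pi.zero_apply, nsmul_eq_mul, ZMod.natCast_self, zero_mul]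
  have h3 : Perm.sign (trn k ℓ v) ^ ℓ = 1 := by rw [← map_pow, h2, map_one]
  rcases Int.units_eq_one_or (Perm.sign (trn k ℓ v)) with h | h
  · exact h
  · rw [h, hodd.neg_one_pow] at h3
    exact absurd h3 (by decide)

/-- the elementary abelian group generated by disjoint cycles -/
def tau (k ℓ : ℕ) [NeZero ℓ] (hodd : Odd ℓ) : Multiplicative (Fin k → ZMod ℓ) →* ↥(alternatingGroup (Fin (k * ℓ))) :=
  MonoidHom.codRestrict
    { toFun := fun v => onF k ℓ (trn k ℓ v.toAdd)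
      map_one' := by
        show onF k ℓ (trn k ℓ 0) = 1
        rw [trn_zero, map_one]
      map_mul' := fun v w => by
        show onF k ℓ (trn k ℓ (v.toAdd + w.toAdd)) = _
        rw [trn_mul, map_mul] } _
    (fun v => by
      show onF k ℓ (trn k ℓ v.toAdd) ∈ alternatingGroup _
      rw [Perm.mem_alternatingGroup, sign_onF, sign_trn hodd])

theorem tau_coe (hodd : Odd ℓ) (v : Multiplicative (Fin k → ZMod ℓ)) :
    ((tau k ℓ hodd v : ↥(alternatingGroup (Fin (k * ℓ)))) : Perm (Fin (k * ℓ))) = onF k ℓ (trn k ℓ v.toAdd) := rfl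

theorem tau_injective (hodd : Odd ℓ) : Function.Injective (tau k ℓ hodd) := by
  intro v w h
  have h1 : onF k ℓ (trn k ℓ v.toAdd) = onF k ℓ (trn k ℓ w.toAdd) := congrArg Subtype.val h
  have h2 := (onF k ℓ).injective h1
  apply Multiplicative.toAdd.injective
  funext b
  have h3 := congrArg Prod.snd (Equiv.congr_fun h2 (b, 0))
  change 0 + v.toAdd b = 0 + w.toAdd b at h3
  rwa [zero_add, zero_add] at h3

/-- the block permutation of the first two blocks composed with a scaling commutes with the translation -/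
theorem exists_odd (hk : 2 ≤ k) [hl : Fact ℓ.Prime] (hs : Perm.sign (blk k ℓ (Equiv.swap ⟨0, by omega⟩ ⟨1, by omega⟩)) = -1)
    (v : Fin k → ZMod ℓ) : ∃ κ : Perm (Fin k × ZMod ℓ), κ * trn k ℓ v = trn k ℓ v * κ ∧ Perm.sign κ = -1 := by
  classical
  by_cases h0 : ∃ b, v b = 0
  · obtain ⟨b, hb⟩ := h0
    refine ⟨Equiv.swap (b, 0) (b, 1), ?_, ?_⟩
    · have h1 : trn k ℓ v (b, 0) = (b, 0) := by
        show (b, 0 + v b) = (b, 0)
        rw [hb, add_zero]
      have h2 : trn k ℓ v (b, 1) = (b, 1) := by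
        show (b, 1 + v b) = (b, 1)
        rw [hb, add_zero]
      have h3 := Equiv.mul_swap_eq_swap_mul (trn k ℓ v) (b, 0) (b, 1)
      rw [h1, h2] at h3
      exact h3.symm
    · rw [Perm.sign_swap]
      intro h
      have := congrArg Prod.snd h
      exact zero_ne_one this
  · push Not at h0
    set i0 : Fin k := ⟨0, by omega⟩ with hi0
    set i1 : Fin k := ⟨1, by omega⟩ with hi1
    have hne : i0 ≠ i1 := by
      intro h
      have := congrArg Fin.val h
      simp [hi0, hi1] at this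
    -- scaling making the first two coordinates equal
    let c : Fin k → (ZMod ℓ)ˣ := fun b => (Units.mk0 (v b) (h0 b))⁻¹
    let s := scl k ℓ c
    let β := blk k ℓ (Equiv.swap i0 i1)
    refine ⟨s⁻¹ * β * s, ?_, ?_⟩
    · have h1 : s * trn k ℓ v * s⁻¹ = trn k ℓ (fun _ => 1) := by
        rw [scl_conj]
        congr 1
        funext b
        show ((Units.mk0 (v b) (h0 b))⁻¹ : (ZMod ℓ)ˣ).val * v b = 1
        rw [Units.val_inv_eq_inv_val, Units.val_mk0, inv_mul_cancel₀ (h0 b)]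
      have h2 : β * trn k ℓ (fun _ => 1) * β⁻¹ = trn k ℓ (fun _ => 1) := blk_conj _ _
      have h3 : trn k ℓ v = s⁻¹ * trn k ℓ (fun _ => 1) * s := by rw [← h1]; group
      have h4 : β * trn k ℓ (fun _ => 1) = trn k ℓ (fun _ => 1) * β := mul_inv_eq_iff_eq_mul.1 h2
      calc s⁻¹ * β * s * trn k ℓ v = s⁻¹ * (β * trn k ℓ (fun _ => 1)) * s := by rw [h3]; group
        _ = trn k ℓ v * (s⁻¹ * β * s) := by rw [h4, h3]; group
    · rw [map_mul, map_mul, map_inv]
      have : Perm.sign β = -1 := hs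
      rw [this]
      rcases Int.units_eq_one_or (Perm.sign s) with h | h <;> rw [h] <;> rfl

/-- elements conjugate by a permutation of the points are conjugate in the alternating group -/
theorem tau_conj (hodd : Odd ℓ) (hk : 2 ≤ k) [hl : Fact ℓ.Prime]
    (hs : Perm.sign (blk k ℓ (Equiv.swap ⟨0, by omega⟩ ⟨1, by omega⟩)) = -1) {v w : Fin k → ZMod ℓ}
    {ρ : Perm (Fin k × ZMod ℓ)} (h : ρ * trn k ℓ v * ρ⁻¹ = trn k ℓ w) :
    ∃ g, g * tau k ℓ hodd (Multiplicative.ofAdd v) * g⁻¹ = tau k ℓ hodd (Multiplicative.ofAdd w) := by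
  obtain ⟨κ, hκ, hκs⟩ := exists_odd hk hs v
  refine isConj_alt (ρ := onF k ℓ ρ) (κ := onF k ℓ κ) ?_ ?_ ?_
  · rw [tau_coe, tau_coe, ← map_mul, ← map_inv, ← map_mul]
    exact congrArg _ h
  · rw [tau_coe, ← map_mul, ← map_mul]
    exact congrArg _ hκ
  · rw [sign_onF, hκs]

/-- same zero pattern: conjugate -/
theorem exists_scl [hl : Fact ℓ.Prime] {v w : Fin k → ZMod ℓ} (h : ∀ b, v b = 0 ↔ w b = 0) :
    ∃ ρ : Perm (Fin k × ZMod ℓ), ρ * trn k ℓ v * ρ⁻¹ = trn k ℓ w := by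
  classical
  refine ⟨scl k ℓ (fun b => if hb : v b = 0 then 1 else Units.mk0 (w b / v b) (div_ne_zero (fun h' => hb ((h b).2 h')) hb)), ?_⟩
  rw [scl_conj]
  congr 1
  funext b
  by_cases hb : v b = 0
  · rw [dif_pos hb, hb, mul_zero, (h b).1 hb]
  · rw [dif_neg hb, Units.val_mk0, div_mul_cancel₀ _ hb]

end Block

theorem sign_blk27 : Perm.sign (blk 2 7 (Equiv.swap ⟨0, by omega⟩ ⟨1, by omega⟩)) = -1 := by
  decide +kernel

theorem sign_blk35 : Perm.sign (blk 3 5 (Equiv.swap ⟨0, by omega⟩ ⟨1, by omega⟩)) = -1 := by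
  decide +kernel

end Cfsg.Agent.H186
end

-- part: H186/ExcCount
section
/-!
# Counting the roots by their values on an elementary abelian `ℓ`-group in the torus (helper186)
-/

set_option autoImplicit false

namespace Cfsg.Agent.H186

open Cfsg.Lie Cfsg.Agent.ChevalleyStructure Cfsg.Agent.ChevalleyStructure.Elts
  Cfsg.Agent.ChevalleyStructure.RootCombGood Cfsg.Agent.ChevalleyStructure.RootWord
  Cfsg.Agent.ChevalleyStructure.RootComb Cfsg.Agent.ChevalleyStructure.NPerm Cfsg.Agent.H190 Equiv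

universe u

/-! ### conjugate torus elements -/

theorem ent_count {D : ChevalleyDatum} (hD : InList D) {F : Type u} [Field F] [DecidableEq F] {t t' : GL D.Idx F}
    (ht : t ∈ D.diagonalSubgroup F) (ht' : t' ∈ D.diagonalSubgroup F) {g : GL D.Idx F} (h : g * t * g⁻¹ = t') (z : F) :
    (Finset.univ.filter fun r : Fin D.nroots => ent t r = z).card =
      (Finset.univ.filter fun r : Fin D.nroots => ent t' r = z).card := by
  obtain ⟨χ, -, h1⟩ := HDiag.exists_dmat D hD t ht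
  obtain ⟨χ', -, h2⟩ := HDiag.exists_dmat D hD t' ht'
  have h3 := Cfsg.Agent.H191.DiagCount.count_eq_of_conj (h1.trans (HDiag.dmat_def D F χ))
    (h2.trans (HDiag.dmat_def D F χ')) h z
  have h4 : ∀ ψ : Fin D.nroots → F, (Finset.univ.filter fun i : D.Idx => Sum.elim (fun _ => (1 : F)) ψ i = z).card =
      (Finset.univ.filter fun _ : Fin D.rank => (1 : F) = z).card +
        (Finset.univ.filter fun r : Fin D.nroots => ψ r = z).card := by
    intro ψ
    rw [Finset.card_filter, Finset.card_filter, Finset.card_filter]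
    exact Fintype.sum_sum_type _
  rw [h4, h4] at h3
  have h5 : ∀ r, ent t r = χ r := ent_of_dmat h1
  have h6 : ∀ r, ent t' r = χ' r := ent_of_dmat h2
  simp_rw [h5, h6]
  omega

/-! ### embeddings of block groups -/

/-- an embedding of `(ℤ/ℓ)^k` in the monomial group, respecting the fusion by permutations of the points -/
structure BlockEmb (D : ChevalleyDatum) (K : Type u) [Field K] (k ℓ : ℕ) [NeZero ℓ] where
  σ : Multiplicative (Fin k → ZMod ℓ) →* GL D.Idx K
  inj : Function.Injective σ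
  mem : ∀ v, σ v ∈ D.monomialSubgroup K
  conj : ∀ (v w : Fin k → ZMod ℓ) (ρ : Perm (Fin k × ZMod ℓ)), ρ * trn k ℓ v * ρ⁻¹ = trn k ℓ w →
    ∃ g : GL D.Idx K, g * σ (Multiplicative.ofAdd v) * g⁻¹ = σ (Multiplicative.ofAdd w)

theorem exists_blockEmb {D : ChevalleyDatum} {K : Type u} [Field K] {k ℓ : ℕ} [NeZero ℓ] [hl : Fact ℓ.Prime]
    (hodd : Odd ℓ) (hk : 2 ≤ k) (hs : Perm.sign (blk k ℓ (Equiv.swap ⟨0, by omega⟩ ⟨1, by omega⟩)) = -1)
    (fe : FusEmb D K (k * ℓ) (tau k ℓ hodd).range) : Nonempty (BlockEmb D K k ℓ) := by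
  let σ : Multiplicative (Fin k → ZMod ℓ) →* GL D.Idx K :=
    (D.group K).subtype.comp (fe.s.comp (tau k ℓ hodd).rangeRestrict)
  have hσ : ∀ v, σ v = ((fe.s ⟨tau k ℓ hodd v, ⟨v, rfl⟩⟩ : ↥(D.group K)) : GL D.Idx K) := fun _ => rfl
  refine ⟨⟨σ, ?_, ?_, ?_⟩⟩
  · intro v w h
    rw [hσ, hσ] at h
    have h1 := fe.inj (Subtype.ext h)
    exact tau_injective hodd (congrArg Subtype.val h1)
  · intro v
    exact fe.mem _
  · intro v w ρ h
    obtain ⟨a, ha⟩ := tau_conj hodd hk hs h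
    obtain ⟨g, hg⟩ := fe.fus a (Subgroup.zpowers (tau k ℓ hodd (Multiplicative.ofAdd v)))
      (by rw [Subgroup.zpowers_le]; exact ⟨_, rfl⟩)
      (by
        intro q hq
        obtain ⟨m, rfl⟩ := Subgroup.mem_zpowers_iff.1 hq
        rw [← conj_zpow, ha]
        exact Subgroup.zpow_mem _ (MonoidHom.mem_range.2 ⟨_, rfl⟩) m)
    refine ⟨g, ?_⟩
    have h2 := hg _ (Subgroup.mem_zpowers _)
    rw [hσ, hσ]
    have h3 := congrArg (fun z : ↥(D.group K) => (z : GL D.Idx K)) h2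
    refine h3.trans ?_
    congr 3

/-! ### double counting -/

theorem card_dot_eq_zero {m ℓ : ℕ} [NeZero ℓ] [hl : Fact ℓ.Prime] {δ : Fin m → ZMod ℓ} (hδ : δ ≠ 0) :
    ℓ * (Finset.univ.filter fun v : Fin m → ZMod ℓ => v ⬝ᵥ δ = 0).card = ℓ ^ m := by
  classical
  let f : (Fin m → ZMod ℓ) →+ ZMod ℓ := AddMonoidHom.mk' (fun v => v ⬝ᵥ δ) (fun v w => add_dotProduct v w δ)
  have hsurj : Function.Surjective f := by
    intro a
    obtain ⟨b, hb⟩ := Function.ne_iff.1 hδ
    refine ⟨Pi.single b (a / δ b), ?_⟩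
    show Pi.single b (a / δ b) ⬝ᵥ δ = a
    rw [single_dotProduct, div_mul_cancel₀ _ hb]
  have h1 := AddSubgroup.card_mul_index f.ker
  rw [AddSubgroup.index_ker, AddMonoidHom.range_eq_top.2 hsurj, AddSubgroup.card_top] at h1
  have h2 : Nat.card f.ker = (Finset.univ.filter fun v : Fin m → ZMod ℓ => v ⬝ᵥ δ = 0).card := by
    rw [← Fintype.card_subtype, ← Nat.card_eq_fintype_card]
    rfl
  rw [h2] at h1
  rw [mul_comm]
  rw [Nat.card_eq_fintype_card (α := ZMod ℓ), ZMod.card] at h1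
  rw [h1, Nat.card_eq_fintype_card, Fintype.card_fun, ZMod.card, Fintype.card_fin]

/-- the multiplicity of a weight from the numbers of roots with given values at the elements -/
theorem inversion {ι : Type*} [Fintype ι] {m ℓ : ℕ} [NeZero ℓ] [hl : Fact ℓ.Prime] (lam : ι → Fin m → ZMod ℓ)
    (l0 : Fin m → ZMod ℓ) :
    ℓ * ∑ v : Fin m → ZMod ℓ, (Finset.univ.filter fun r => v ⬝ᵥ lam r = v ⬝ᵥ l0).card =
      ℓ ^ m * (Fintype.card ι + (ℓ - 1) * (Finset.univ.filter fun r => lam r = l0).card) := by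
  classical
  have h1 : ∑ v : Fin m → ZMod ℓ, (Finset.univ.filter fun r => v ⬝ᵥ lam r = v ⬝ᵥ l0).card =
      ∑ r, (Finset.univ.filter fun v : Fin m → ZMod ℓ => v ⬝ᵥ lam r = v ⬝ᵥ l0).card := by
    simp_rw [Finset.card_filter]
    exact Finset.sum_comm
  have h2 : ∀ r, ℓ * (Finset.univ.filter fun v : Fin m → ZMod ℓ => v ⬝ᵥ lam r = v ⬝ᵥ l0).card =
      ℓ ^ m * (1 + (ℓ - 1) * (if lam r = l0 then 1 else 0)) := by
    intro r
    by_cases h : lam r = l0
    · rw [if_pos h, h]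
      have : (Finset.univ.filter fun v : Fin m → ZMod ℓ => v ⬝ᵥ l0 = v ⬝ᵥ l0) = Finset.univ := by
        rw [Finset.filter_true_of_mem]
        intro v _
        rfl
      rw [this, Finset.card_univ, Fintype.card_fun, ZMod.card, Fintype.card_fin, mul_one, mul_comm]
      congr 1
      have := hl.out.one_lt
      omega
    · rw [if_neg h, mul_zero, add_zero, mul_one, ← card_dot_eq_zero (sub_ne_zero.2 h)]
      congr 2
      ext v
      rw [Finset.mem_filter, Finset.mem_filter, dotProduct_sub, sub_eq_zero]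
  rw [h1, Finset.mul_sum]
  simp_rw [h2]
  rw [← Finset.mul_sum, Finset.sum_add_distrib, ← Finset.mul_sum, ← Finset.card_filter, Finset.sum_const, smul_eq_mul,
    mul_one, Finset.card_univ]

end Cfsg.Agent.H186
end

-- part: H186/ExcWeights
section
/-!
# The weights of an elementary abelian group in the torus (helper186)
-/

set_option autoImplicit false

namespace Cfsg.Agent.H186

open Cfsg.Lie Cfsg.Agent.ChevalleyStructure Cfsg.Agent.ChevalleyStructure.Elts
  Cfsg.Agent.ChevalleyStructure.RootCombGood Cfsg.Agent.ChevalleyStructure.RootWord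
  Cfsg.Agent.ChevalleyStructure.RootComb Cfsg.Agent.ChevalleyStructure.NPerm Cfsg.Agent.H190 Equiv

universe u

section E

variable {K : Type u} [Field K] {ℓ : ℕ} [NeZero ℓ]

/-- `ζ ^ a` for `a` modulo `ℓ` -/
def zE (ζ : K) (a : ZMod ℓ) : K := ζ ^ a.val

theorem zE_zero (ζ : K) : zE ζ (0 : ZMod ℓ) = 1 := by
  unfold zE
  rw [ZMod.val_zero, pow_zero]

theorem zE_add {ζ : K} (h : ζ ^ ℓ = 1) (a b : ZMod ℓ) : zE ζ (a + b) = zE ζ a * zE ζ b := by
  unfold zE
  rw [ZMod.val_add, ← pow_eq_pow_mod _ h, pow_add]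

theorem zE_natCast {ζ : K} (h : ζ ^ ℓ = 1) (n : ℕ) : zE ζ ((n : ℕ) : ZMod ℓ) = ζ ^ n := by
  unfold zE
  rw [ZMod.val_natCast, ← pow_eq_pow_mod _ h]

theorem zE_intCast {ζ : K} (h : ζ ^ ℓ = 1) (n : ℤ) : zE ζ ((n : ℤ) : ZMod ℓ) = ζ ^ n := by
  have hζ : ζ ≠ 0 := by
    rintro rfl
    rw [zero_pow (NeZero.ne ℓ)] at h
    exact zero_ne_one h
  obtain ⟨m, rfl | rfl⟩ := Int.eq_nat_or_neg n
  · rw [Int.cast_natCast, zE_natCast h, zpow_natCast]
  · rw [Int.cast_neg, Int.cast_natCast, zpow_neg, zpow_natCast, ← zE_natCast h]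
    have h1 := zE_add h (-((m : ℕ) : ZMod ℓ)) ((m : ℕ) : ZMod ℓ)
    rw [neg_add_cancel, zE_zero] at h1
    exact eq_inv_of_mul_eq_one_left h1.symm

theorem zE_injective {ζ : K} (h : IsPrimitiveRoot ζ ℓ) : Function.Injective (zE (ℓ := ℓ) ζ) := by
  intro a b hab
  exact ZMod.val_injective ℓ (h.pow_inj (ZMod.val_lt a) (ZMod.val_lt b) hab)

theorem zE_mul {ζ : K} (h : ζ ^ ℓ = 1) (a b : ZMod ℓ) : zE ζ (a * b) = (zE ζ b) ^ a.val := by
  conv_lhs => rw [← ZMod.natCast_zmod_val a]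
  generalize a.val = n
  induction n with
  | zero => rw [Nat.cast_zero, zero_mul, zE_zero, pow_zero]
  | succ n ih => rw [Nat.cast_succ, add_mul, one_mul, zE_add h, ih, pow_succ]

end E

theorem ent_pow {D : ChevalleyDatum} (hD : InList D) {F : Type u} [Field F] {t : GL D.Idx F}
    (ht : t ∈ D.diagonalSubgroup F) (r : Fin D.nroots) (n : ℕ) : ent (t ^ n) r = ent t r ^ n := by
  induction n with
  | zero =>
    rw [pow_zero, pow_zero]
    show ((1 : GL D.Idx F) : Matrix D.Idx D.Idx F) (Sum.inr r) (Sum.inr r) = 1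
    rw [Units.val_one, Matrix.one_apply_eq]
  | succ n ih => rw [pow_succ, pow_succ, ent_mul hD (pow_mem ht n) ht, ih]

theorem ent_one {D : ChevalleyDatum} {F : Type u} [Field F] (r : Fin D.nroots) : ent (1 : GL D.Idx F) r = 1 := by
  show ((1 : GL D.Idx F) : Matrix D.Idx D.Idx F) (Sum.inr r) (Sum.inr r) = 1
  rw [Units.val_one, Matrix.one_apply_eq]

section W

variable {D : ChevalleyDatum} {K : Type u} [Field K] {k ℓ m : ℕ} [NeZero ℓ]

/-- the linear combination of the vectors `u b` -/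
def comb (u : Fin m → Fin k → ZMod ℓ) (c : Fin m → ZMod ℓ) : Fin k → ZMod ℓ := ∑ b, c b • u b

/-- the weight of the root `r` -/
def wgt (D : ChevalleyDatum) (ℓ : ℕ) {m : ℕ} (X : Fin m → ℕ → ℤ) (r : Fin D.nroots) : Fin m → ZMod ℓ :=
  fun b => ((val D (X b) r : ℤ) : ZMod ℓ)

/-- the combined vector -/
def cvec (X : Fin m → ℕ → ℤ) (c : Fin m → ZMod ℓ) : ℕ → ℤ := fun j => ∑ b, ((c b).val : ℤ) * X b j

theorem val_cvec (X : Fin m → ℕ → ℤ) (c : Fin m → ZMod ℓ) (r : Fin D.nroots) :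
    ((val D (cvec X c) r : ℤ) : ZMod ℓ) = c ⬝ᵥ wgt D ℓ X r := by
  have h1 : val D (cvec X c) r = ∑ b, ((c b).val : ℤ) * val D (X b) r := by
    unfold val cvec
    simp_rw [Finset.mul_sum]
    rw [Finset.sum_comm]
    refine Finset.sum_congr rfl fun b _ => Finset.sum_congr rfl fun j _ => by ring
  rw [h1]
  unfold dotProduct wgt
  push_cast
  refine Finset.sum_congr rfl fun b _ => ?_
  rw [ZMod.natCast_zmod_val]

/-- **the weights** of the elements `σ (∑ c_b u_b)` -/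
theorem exists_weights (hD : InList D) (hsl : SL D) (be : BlockEmb D K k ℓ) {ζ : K} (hζ : IsPrimitiveRoot ζ ℓ)
    (u : Fin m → Fin k → ZMod ℓ) (hu : ∀ b, be.σ (Multiplicative.ofAdd (u b)) ∈ D.diagonalSubgroup K) :
    ∃ X : Fin m → ℕ → ℤ, ∀ c, be.σ (Multiplicative.ofAdd (comb u c)) ∈ D.diagonalSubgroup K ∧
      ∀ r, ent (be.σ (Multiplicative.ofAdd (comb u c))) r = zE ζ (c ⬝ᵥ wgt D ℓ X r) := by
  classical
  have hl : 0 < ℓ := Nat.pos_of_ne_zero (NeZero.ne ℓ)
  have hpow : ∀ b, be.σ (Multiplicative.ofAdd (u b)) ^ ℓ = 1 := by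
    intro b
    rw [← map_pow, ← ofAdd_nsmul]
    have : ℓ • u b = 0 := by
      funext i
      rw [Pi.smul_apply, Pi.zero_apply, nsmul_eq_mul, ZMod.natCast_self, zero_mul]
    rw [this, ofAdd_zero, map_one]
  choose X hX using fun b => exists_vec hD hsl hl hζ (hu b) (hpow b)
  refine ⟨X, fun c => ?_⟩
  have key : ∀ S : Finset (Fin m), be.σ (Multiplicative.ofAdd (∑ b ∈ S, c b • u b)) ∈ D.diagonalSubgroup K ∧
      ∀ r, ent (be.σ (Multiplicative.ofAdd (∑ b ∈ S, c b • u b))) r = zE ζ (∑ b ∈ S, c b * wgt D ℓ X r b) := by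
    intro S
    induction S using Finset.induction_on with
    | empty =>
      rw [Finset.sum_empty, ofAdd_zero, map_one]
      exact ⟨Subgroup.one_mem _, fun r => by rw [Finset.sum_empty, zE_zero, ent_one]⟩
    | insert a S ha ih =>
      have e1 : be.σ (Multiplicative.ofAdd (∑ b ∈ insert a S, c b • u b)) =
          be.σ (Multiplicative.ofAdd (u a)) ^ (c a).val * be.σ (Multiplicative.ofAdd (∑ b ∈ S, c b • u b)) := by
        rw [Finset.sum_insert ha, ofAdd_add, map_mul, ← map_pow, ← ofAdd_nsmul]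
        congr 3
        funext i
        rw [Pi.smul_apply, Pi.smul_apply, smul_eq_mul, nsmul_eq_mul, ZMod.natCast_zmod_val]
      rw [e1]
      refine ⟨mul_mem (pow_mem (hu a) _) ih.1, fun r => ?_⟩
      rw [ent_mul hD (pow_mem (hu a) _) ih.1, ih.2 r, ent_pow hD (hu a), hX a r, Finset.sum_insert ha,
        zE_add hζ.pow_eq_one, zE_mul hζ.pow_eq_one]
      unfold wgt
      rw [zE_intCast hζ.pow_eq_one]
  exact key Finset.univ

/-- the number of roots with value `j` at `∑ c_b u_b` -/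
def Mct (D : ChevalleyDatum) (X : Fin m → ℕ → ℤ) (c : Fin m → ZMod ℓ) (j : ZMod ℓ) : ℕ :=
  (Finset.univ.filter fun r : Fin D.nroots => c ⬝ᵥ wgt D ℓ X r = j).card

theorem Mct_eq_N1 (X : Fin m → ℕ → ℤ) (c : Fin m → ZMod ℓ) (j : ZMod ℓ) : Mct D X c j = N1 D ℓ (cvec X c) j := by
  unfold Mct N1
  simp_rw [val_cvec]

theorem Mct_zero (X : Fin m → ℕ → ℤ) : Mct D X (0 : Fin m → ZMod ℓ) 0 = D.nroots := by
  unfold Mct
  simp

/-- conjugate elements have the same numbers -/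
theorem Mct_conj (hD : InList D) (be : BlockEmb D K k ℓ) {ζ : K} (hζ : IsPrimitiveRoot ζ ℓ)
    {u : Fin m → Fin k → ZMod ℓ} {X : Fin m → ℕ → ℤ}
    (hX : ∀ c, be.σ (Multiplicative.ofAdd (comb u c)) ∈ D.diagonalSubgroup K ∧
      ∀ r, ent (be.σ (Multiplicative.ofAdd (comb u c))) r = zE ζ (c ⬝ᵥ wgt D ℓ X r))
    {c c' : Fin m → ZMod ℓ} {ρ : Perm (Fin k × ZMod ℓ)} (h : ρ * trn k ℓ (comb u c) * ρ⁻¹ = trn k ℓ (comb u c'))
    (j : ZMod ℓ) : Mct D X c j = Mct D X c' j := by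
  classical
  obtain ⟨g, hg⟩ := be.conj _ _ ρ h
  have h1 := ent_count hD (hX c).1 (hX c').1 hg (zE ζ j)
  unfold Mct
  simp_rw [(hX c).2, (hX c').2, (zE_injective hζ).eq_iff] at h1
  exact h1

theorem comb_smul (u : Fin m → Fin k → ZMod ℓ) (a : ZMod ℓ) (c : Fin m → ZMod ℓ) : comb u (a • c) = a • comb u c := by
  unfold comb
  rw [Finset.smul_sum]
  refine Finset.sum_congr rfl fun b _ => ?_
  rw [Pi.smul_apply, smul_assoc]

/-- the elements are rational -/
theorem Mct_rational [hl : Fact ℓ.Prime] (hD : InList D) (be : BlockEmb D K k ℓ) {ζ : K} (hζ : IsPrimitiveRoot ζ ℓ)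
    {u : Fin m → Fin k → ZMod ℓ} {X : Fin m → ℕ → ℤ}
    (hX : ∀ c, be.σ (Multiplicative.ofAdd (comb u c)) ∈ D.diagonalSubgroup K ∧
      ∀ r, ent (be.σ (Multiplicative.ofAdd (comb u c))) r = zE ζ (c ⬝ᵥ wgt D ℓ X r))
    (c : Fin m → ZMod ℓ) {i j : ZMod ℓ} (hi : i ≠ 0) (hj : j ≠ 0) : Mct D X c i = Mct D X c j := by
  have ha : i / j ≠ 0 := div_ne_zero hi hj
  obtain ⟨ρ, hρ⟩ := exists_scl (k := k) (ℓ := ℓ) (v := comb u c) (w := comb u ((i / j) • c)) (by
    intro b
    rw [comb_smul, Pi.smul_apply, smul_eq_mul, mul_eq_zero]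
    exact ⟨fun h => Or.inr h, fun h => h.resolve_left ha⟩)
  rw [Mct_conj hD be hζ hX hρ i]
  unfold Mct
  congr 1
  ext r
  rw [Finset.mem_filter, Finset.mem_filter, smul_dotProduct, smul_eq_mul]
  constructor
  · rintro ⟨-, h⟩
    refine ⟨Finset.mem_univ _, ?_⟩
    field_simp at h
    exact h
  · rintro ⟨-, h⟩
    refine ⟨Finset.mem_univ _, ?_⟩
    rw [h]
    field_simp

theorem Mct_eq_all (hD : InList D) (be : BlockEmb D K k ℓ) {ζ : K}
    {u : Fin m → Fin k → ZMod ℓ} {X : Fin m → ℕ → ℤ}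
    (hX : ∀ c, be.σ (Multiplicative.ofAdd (comb u c)) ∈ D.diagonalSubgroup K ∧
      ∀ r, ent (be.σ (Multiplicative.ofAdd (comb u c))) r = zE ζ (c ⬝ᵥ wgt D ℓ X r))
    (c : Fin m → ZMod ℓ) (h : Mct D X c 0 = D.nroots) : comb u c = 0 := by
  have h1 : ∀ r : Fin D.nroots, c ⬝ᵥ wgt D ℓ X r = 0 := by
    intro r
    unfold Mct at h
    have h2 : (Finset.univ.filter fun r : Fin D.nroots => c ⬝ᵥ wgt D ℓ X r = 0) = Finset.univ := by
      apply Finset.eq_univ_of_card
      rw [h, Fintype.card_fin]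
    have h3 : r ∈ (Finset.univ.filter fun r : Fin D.nroots => c ⬝ᵥ wgt D ℓ X r = 0) := by
      rw [h2]; exact Finset.mem_univ _
    exact (Finset.mem_filter.1 h3).2
  have h2 : be.σ (Multiplicative.ofAdd (comb u c)) = 1 := by
    apply torus_ext hD (hX c).1 (Subgroup.one_mem _)
    intro r
    rw [(hX c).2, h1, zE_zero, ent_one]
  have h3 := be.inj (h2.trans (map_one be.σ).symm)
  exact h3

end W

end Cfsg.Agent.H186
end

-- part: H186/ExcPair7
section
/-!
# No pair of vectors of `E₇` modulo `7` with the multiplicities forced by `7² ≤ A₁₄` (helper186)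
-/

set_option autoImplicit false
set_option maxRecDepth 100000

namespace Cfsg.Agent.H186

open Cfsg.Lie Cfsg.Agent.ChevalleyStructure Cfsg.Agent.ChevalleyStructure.Elts
  Cfsg.Agent.ChevalleyStructure.RootCombGood Cfsg.Agent.ChevalleyStructure.RootWord
  Cfsg.Agent.ChevalleyStructure.RootComb Cfsg.Agent.ChevalleyStructure.NPerm Cfsg.Agent.H190

/-! ### words -/

/-- a word as a permutation of the roots -/
def wPerm {D : ChevalleyDatum} (G : Good D) (w : List ℕ) (hw : ∀ a ∈ w, a < D.rank) : Equiv.Perm (Fin D.nroots) where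
  toFun r := ⟨wact D w r, wact_lt G hw r.2⟩
  invFun r := ⟨wact D w.reverse r, wact_lt G (fun a ha => hw a (List.mem_reverse.1 ha)) r.2⟩
  left_inv r := Fin.ext (wact_reverse G hw r.2)
  right_inv r := Fin.ext (wact_reverse' G hw r.2)

theorem val_wact {D : ChevalleyDatum} (G : Good D) (x : ℕ → ℤ) {w : List ℕ} (hw : ∀ a ∈ w, a < D.rank) {r : ℕ}
    (hr : r < D.nroots) : val D x (wact D w r) = val D (fun j => val D x (wact D w (D.simple j))) r := by
  unfold val
  have h1 : ∀ j ∈ Finset.range D.rank, co D (wact D w r) j * x j =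
      ∑ k ∈ Finset.range D.rank, co D r k * (co D (wact D w (D.simple k)) j * x j) := by
    intro j hj
    rw [co_wact G hw hr (Finset.mem_range.1 hj), Finset.sum_mul]
    exact Finset.sum_congr rfl fun k _ => by ring
  rw [Finset.sum_congr rfl h1, Finset.sum_comm]
  refine Finset.sum_congr rfl fun k _ => ?_
  rw [Finset.mul_sum]

theorem rel_word {D : ChevalleyDatum} (G : Good D) (ℓ : ℕ) (x y : ℕ → ℤ) {w : List ℕ} (hw : ∀ a ∈ w, a < D.rank) :
    Rel D ℓ x y (fun j => val D x (wact D w (D.simple j))) (fun j => val D y (wact D w (D.simple j))) := by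
  refine ⟨wPerm G w hw, fun r => ?_⟩
  rw [← val_wact G x hw r.2, ← val_wact G y hw r.2]
  exact ⟨rfl, rfl⟩

/-- the word taking `(1,0,0,1,0,0,1)` to `(0,0,0,1,0,1,0)` modulo 7 -/
def w7 : List ℕ := [6, 5, 4, 3, 1, 2, 0, 3, 2, 4, 3, 1, 5, 4, 3, 2, 0, 6, 5, 4, 3, 1, 2, 3, 4, 5]

theorem w7_lt : ∀ a ∈ w7, a < chevE7.rank := by decide +kernel

theorem w7_spec : ∀ j < 7, (co chevE7 (wact chevE7 w7 (chevE7.simple j)) 0 + co chevE7 (wact chevE7 w7 (chevE7.simple j)) 3 +
    co chevE7 (wact chevE7 w7 (chevE7.simple j)) 6 - (([0, 0, 0, 1, 0, 1, 0] : List ℤ).getD j 0)) % 7 = 0 := by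
  decide +kernel

/-! ### the search -/

def x7 : List ℕ := [0, 0, 0, 1, 0, 1, 0]

/-- the positive roots of value `0`, `1`, `6` at `x7` -/
def Z7 : List (List ℕ) :=
  [[0, 0, 0, 0, 0, 0, 1], [0, 0, 0, 0, 1, 0, 0], [0, 0, 1, 0, 0, 0, 0], [0, 1, 0, 0, 0, 0, 0], [1, 0, 0, 0, 0, 0, 0],
   [1, 0, 1, 0, 0, 0, 0]]

def O7 : List (List ℕ) :=
  [[0, 0, 0, 0, 0, 1, 0], [0, 0, 0, 0, 0, 1, 1], [0, 0, 0, 0, 1, 1, 0], [0, 0, 0, 0, 1, 1, 1], [0, 0, 0, 1, 0, 0, 0],
   [0, 0, 0, 1, 1, 0, 0], [0, 0, 1, 1, 0, 0, 0], [0, 0, 1, 1, 1, 0, 0], [0, 1, 0, 1, 0, 0, 0], [0, 1, 0, 1, 1, 0, 0],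
   [0, 1, 1, 1, 0, 0, 0], [0, 1, 1, 1, 1, 0, 0], [1, 0, 1, 1, 0, 0, 0], [1, 0, 1, 1, 1, 0, 0], [1, 1, 1, 1, 0, 0, 0],
   [1, 1, 1, 1, 1, 0, 0]]

def P7 : List (List ℕ) := [[1, 2, 2, 4, 3, 2, 1], [1, 2, 3, 4, 3, 2, 1], [2, 2, 3, 4, 3, 2, 1]]

theorem Z7_eq : (posE7.filter fun row => Nat.beq (dotL row x7 % 7) 0) = Z7 := by decide +kernel
theorem O7_eq : (posE7.filter fun row => Nat.beq (dotL row x7 % 7) 1) = O7 := by decide +kernel
theorem P7_eq : (posE7.filter fun row => Nat.beq (dotL row x7 % 7) 6) = P7 := by decide +kernel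

/-- `32 ^ v + 32 ^ (-v)` -/
def wt (v : ℕ) : ℕ := Nat.add (Nat.pow 32 (Nat.mod v 7)) (Nat.pow 32 (Nat.mod (Nat.sub 7 (Nat.mod v 7)) 7))

/-- the histogram of `y` on the roots of value `0` -/
def hZ (a b c e g : ℕ) : ℕ :=
  Nat.add (wt g) (Nat.add (wt e) (Nat.add (wt c) (Nat.add (wt b) (Nat.add (wt a) (wt (Nat.add a c))))))

/-- the histogram of `y` on the roots of value `1` -/
def hO (Y : List ℕ) : ℕ :=
  Nat.add (sumL (fun row => Nat.pow 32 (Nat.mod (dotL row Y) 7)) O7)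
    (sumL (fun row => Nat.pow 32 (Nat.mod (Nat.sub 7 (Nat.mod (dotL row Y) 7)) 7)) P7)

def all7 (P : ℕ → Bool) : Bool := and (P 0) (and (P 1) (and (P 2) (and (P 3) (and (P 4) (and (P 5) (P 6))))))

theorem all7_spec {P : ℕ → Bool} (h : all7 P = true) : ∀ v < 7, P v = true := by
  unfold all7 at h
  simp only [Bool.and_eq_true] at h
  obtain ⟨h0, h1, h2, h3, h4, h5, h6⟩ := h
  intro v hv
  interval_cases v <;> assumption

/-- `6 + ∑ 32^k` -/
def cZ : ℕ := 6 + 32 + 32 ^ 2 + 32 ^ 3 + 32 ^ 4 + 32 ^ 5 + 32 ^ 6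

/-- `1 + 3 ∑ 32^k` -/
def cO : ℕ := 1 + 3 * 32 + 3 * 32 ^ 2 + 3 * 32 ^ 3 + 3 * 32 ^ 4 + 3 * 32 ^ 5 + 3 * 32 ^ 6

def search7 : Bool :=
  all7 fun a => all7 fun b => all7 fun c => all7 fun e => all7 fun g =>
    or (not (Nat.beq (hZ a b c e g) 1108378662)) (all7 fun d => all7 fun f => not (Nat.beq (hO [a, b, c, d, e, f, g]) 3325135969))

theorem cZ_eq : cZ = 1108378662 := by norm_num [cZ]
theorem cO_eq : cO = 3325135969 := by norm_num [cO]

theorem search7_ok : search7 = true := by decide +kernel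

theorem sum_ite_filter {α : Type} (p : α → Bool) (q : α → Prop) [DecidablePred q] (hpq : ∀ a, q a ↔ p a = true) (f : α → ℕ) :
    ∀ l : List α, (l.map fun a => if q a then f a else 0).sum = sumL f (l.filter p)
  | [] => rfl
  | a :: l => by
    rw [List.map_cons, List.sum_cons, sum_ite_filter p q hpq f l, List.filter_cons]
    by_cases h : q a
    · rw [if_pos h, if_pos ((hpq a).1 h)]
      rfl
    · rw [if_neg h, if_neg (fun h' => h ((hpq a).2 h')), zero_add]

theorem natBeq_iff (a b : ℕ) : Nat.beq a b = true ↔ a = b :=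
  ⟨Nat.eq_of_beq_eq_true, fun h => h ▸ Nat.beq_refl a⟩

theorem cast7_eq (n : ℕ) (a : ℕ) (ha : a < 7) : ((n : ℕ) : ZMod 7) = ((a : ℕ) : ZMod 7) ↔ n % 7 = a := by
  rw [ZMod.natCast_eq_natCast_iff', Nat.mod_eq_of_lt ha]

theorem sum_map_add' {α : Type} (f g : α → ℕ) : ∀ l : List α, (l.map fun a => f a + g a).sum = (l.map f).sum + (l.map g).sum
  | [] => rfl
  | a :: l => by
    rw [List.map_cons, List.sum_cons, sum_map_add' f g l, List.map_cons, List.map_cons, List.sum_cons, List.sum_cons]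
    ring

theorem sum0 {x y : ℕ → ℤ} {a b c d e f g : ℕ} (hX : Repr chevE7 7 x x7) (hY : Repr chevE7 7 y [a, b, c, d, e, f, g]) :
    ∑ v : ZMod 7, N2 chevE7 7 x y 0 v * 32 ^ v.val = hZ a b c e g := by
  rw [← sum_pow_N2, sum_roots goodE7 posTabE7 (fun u v => if u = 0 then 32 ^ v.val else 0) hX hY]
  have h1 : ∀ row : List ℕ, ((if ((dotL row x7 : ℕ) : ZMod 7) = 0 then 32 ^ ((dotL row [a, b, c, d, e, f, g] : ℕ) : ZMod 7).val else 0) +
      (if -((dotL row x7 : ℕ) : ZMod 7) = 0 then 32 ^ (-((dotL row [a, b, c, d, e, f, g] : ℕ) : ZMod 7)).val else 0)) =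
      if dotL row x7 % 7 = 0 then wt (dotL row [a, b, c, d, e, f, g]) else 0 := by
    intro row
    have e1 : ((dotL row x7 : ℕ) : ZMod 7) = 0 ↔ dotL row x7 % 7 = 0 := by
      have := cast7_eq (dotL row x7) 0 (by norm_num)
      rwa [Nat.cast_zero] at this
    by_cases h : dotL row x7 % 7 = 0
    · rw [if_pos (e1.2 h), if_pos (by rw [neg_eq_zero]; exact e1.2 h), if_pos h, ZMod.val_natCast, val_neg_cast]
      rfl
    · rw [if_neg (fun h' => h (e1.1 h')), if_neg (fun h' => h (e1.1 (neg_eq_zero.1 h'))), if_neg h]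
  simp_rw [h1]
  rw [sum_ite_filter (fun row => Nat.beq (dotL row x7 % 7) 0) _ (fun row => (natBeq_iff _ _).symm), Z7_eq]
  unfold hZ Z7
  show Nat.add (wt _) (Nat.add (wt _) (Nat.add (wt _) (Nat.add (wt _) (Nat.add (wt _) (Nat.add (wt _) 0))))) = _
  have e1 : dotL [0, 0, 0, 0, 0, 0, 1] [a, b, c, d, e, f, g] = g := by simp only [dotL_cons, dotL_nil]; ring
  have e2 : dotL [0, 0, 0, 0, 1, 0, 0] [a, b, c, d, e, f, g] = e := by simp only [dotL_cons, dotL_nil]; ring
  have e3 : dotL [0, 0, 1, 0, 0, 0, 0] [a, b, c, d, e, f, g] = c := by simp only [dotL_cons, dotL_nil]; ring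
  have e4 : dotL [0, 1, 0, 0, 0, 0, 0] [a, b, c, d, e, f, g] = b := by simp only [dotL_cons, dotL_nil]; ring
  have e5 : dotL [1, 0, 0, 0, 0, 0, 0] [a, b, c, d, e, f, g] = a := by simp only [dotL_cons, dotL_nil]; ring
  have e6 : dotL [1, 0, 1, 0, 0, 0, 0] [a, b, c, d, e, f, g] = a + c := by simp only [dotL_cons, dotL_nil]; ring
  rw [e1, e2, e3, e4, e5, e6]
  rfl

theorem sum1 {x y : ℕ → ℤ} {Y : List ℕ} (hX : Repr chevE7 7 x x7) (hY : Repr chevE7 7 y Y) :
    ∑ v : ZMod 7, N2 chevE7 7 x y 1 v * 32 ^ v.val = hO Y := by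
  rw [← sum_pow_N2, sum_roots goodE7 posTabE7 (fun u v => if u = 1 then 32 ^ v.val else 0) hX hY, sum_map_add']
  have h1 : ∀ row : List ℕ, (if ((dotL row x7 : ℕ) : ZMod 7) = 1 then 32 ^ ((dotL row Y : ℕ) : ZMod 7).val else 0) =
      if dotL row x7 % 7 = 1 then Nat.pow 32 (Nat.mod (dotL row Y) 7) else 0 := by
    intro row
    have e1 : ((dotL row x7 : ℕ) : ZMod 7) = 1 ↔ dotL row x7 % 7 = 1 := by
      have := cast7_eq (dotL row x7) 1 (by norm_num)
      rwa [Nat.cast_one] at this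
    by_cases h : dotL row x7 % 7 = 1
    · rw [if_pos (e1.2 h), if_pos h, ZMod.val_natCast]
      rfl
    · rw [if_neg (fun h' => h (e1.1 h')), if_neg h]
  have h2 : ∀ row : List ℕ, (if -((dotL row x7 : ℕ) : ZMod 7) = 1 then 32 ^ (-((dotL row Y : ℕ) : ZMod 7)).val else 0) =
      if dotL row x7 % 7 = 6 then Nat.pow 32 (Nat.mod (Nat.sub 7 (Nat.mod (dotL row Y) 7)) 7) else 0 := by
    intro row
    have e1 : -((dotL row x7 : ℕ) : ZMod 7) = 1 ↔ dotL row x7 % 7 = 6 := by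
      have := cast7_eq (dotL row x7) 6 (by norm_num)
      rw [← this, neg_eq_iff_eq_neg]
      have e : (-1 : ZMod 7) = ((6 : ℕ) : ZMod 7) := by decide
      rw [e]
    by_cases h : dotL row x7 % 7 = 6
    · rw [if_pos (e1.2 h), if_pos h, val_neg_cast]
      rfl
    · rw [if_neg (fun h' => h (e1.1 h')), if_neg h]
  simp_rw [h1, h2]
  rw [sum_ite_filter (fun row => Nat.beq (dotL row x7 % 7) 1) _ (fun row => (natBeq_iff _ _).symm), O7_eq,
    sum_ite_filter (fun row => Nat.beq (dotL row x7 % 7) 6) _ (fun row => (natBeq_iff _ _).symm), P7_eq]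
  rfl

theorem no_pair_x7 {x y : ℕ → ℤ} (hX : Repr chevE7 7 x x7) (hz0 : N2 chevE7 7 x y 0 0 = 6)
    (hz : ∀ k : ZMod 7, k ≠ 0 → N2 chevE7 7 x y 0 k = 1) (ho0 : N2 chevE7 7 x y 1 0 = 1)
    (ho : ∀ k : ZMod 7, k ≠ 0 → N2 chevE7 7 x y 1 k = 3) : False := by
  obtain ⟨Y, hY, hlt⟩ := exists_repr (ℓ := 7) chevE7 y
  have hlen : Y.length = 7 := hY.len
  match Y, hlen with
  | [a, b, c, d, e, f, g], _ =>
    have h0 := sum0 hX hY
    have h1 := sum1 hX hY
    rw [sum_zmod7, hz0, hz 1 (by decide), hz 2 (by decide), hz 3 (by decide), hz 4 (by decide), hz 5 (by decide),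
      hz 6 (by decide)] at h0
    rw [sum_zmod7, ho0, ho 1 (by decide), ho 2 (by decide), ho 3 (by decide), ho 4 (by decide), ho 5 (by decide),
      ho 6 (by decide)] at h1
    have e0 : (0 : ZMod 7).val = 0 := rfl
    have e1 : (1 : ZMod 7).val = 1 := rfl
    have e2 : (2 : ZMod 7).val = 2 := rfl
    have e3 : (3 : ZMod 7).val = 3 := rfl
    have e4 : (4 : ZMod 7).val = 4 := rfl
    have e5 : (5 : ZMod 7).val = 5 := rfl
    have e6 : (6 : ZMod 7).val = 6 := rfl
    rw [e0, e1, e2, e3, e4, e5, e6] at h0 h1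
    norm_num at h0 h1
    have hs := search7_ok
    have ha := hlt a (by simp)
    have hb := hlt b (by simp)
    have hc := hlt c (by simp)
    have hd := hlt d (by simp)
    have he := hlt e (by simp)
    have hf := hlt f (by simp)
    have hg := hlt g (by simp)
    have s1 := all7_spec (all7_spec (all7_spec (all7_spec (all7_spec hs a ha) b hb) c hc) e he) g hg
    rw [← h0, Bool.or_eq_true] at s1
    rcases s1 with s1 | s1
    · have : Nat.beq 1108378662 1108378662 = true := rfl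
      rw [this] at s1
      exact absurd s1 (by decide)
    · have s2 := all7_spec (all7_spec s1 d hd) f hf
      rw [← h1] at s2
      have : Nat.beq 3325135969 3325135969 = true := rfl
      rw [this] at s2
      exact absurd s2 (by decide)

/-- **there is no pair of vectors of `E₇` modulo `7` with the multiplicities forced by `7² ≤ A₁₄`.** -/
theorem no_pair7 {x y : ℕ → ℤ} (h0 : N1 chevE7 7 x 0 = 12) (h1 : ∀ a : ZMod 7, a ≠ 0 → N1 chevE7 7 x a = 19)
    (hz0 : N2 chevE7 7 x y 0 0 = 6) (hz : ∀ k : ZMod 7, k ≠ 0 → N2 chevE7 7 x y 0 k = 1)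
    (ho0 : N2 chevE7 7 x y 1 0 = 1) (ho : ∀ k : ZMod 7, k ≠ 0 → N2 chevE7 7 x y 1 k = 3) : False := by
  obtain ⟨x', y', X, hr, hX, hmem⟩ := exists_list goodE7 alcE7 (ℓ := 7) (by norm_num) marksE7_spec x y
  have h2 := hist_eq goodE7 posTabE7 256 hX
  rw [hist7 (N1 chevE7 7 x') (μ := 19) (fun a ha => by rw [hr.N1_eq]; exact h1 a ha), hr.N1_eq, h0] at h2
  have h3 := allIn_spec ratChk7' X hmem
  rw [← h2] at h3
  have e : Nat.beq (12 + 19 * 282578800148736) (12 + 19 * 282578800148736) = true := Nat.beq_refl _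
  rw [e, Bool.not_true, Bool.false_or, Bool.or_eq_true] at h3
  have key : ∀ x₂ y₂ : ℕ → ℤ, Rel chevE7 7 x y x₂ y₂ → Repr chevE7 7 x₂ x7 → False := by
    intro x₂ y₂ hr₂ hX₂
    exact no_pair_x7 hX₂ (by rw [hr₂.N2_eq, hz0]) (fun k hk => by rw [hr₂.N2_eq, hz k hk]) (by rw [hr₂.N2_eq, ho0])
      (fun k hk => by rw [hr₂.N2_eq, ho k hk])
  rcases h3 with h3 | h3
  · rw [beq_iff_eq] at h3
    subst h3
    exact key x' y' hr hX
  · rw [beq_iff_eq] at h3
    subst h3
    refine key _ _ (hr.trans (rel_word goodE7 7 x' y' w7_lt)) ⟨rfl, fun j hj => ?_⟩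
    have hj7 : j < 7 := hj
    have hs := w7_spec j hj7
    have hlt : wact chevE7 w7 (chevE7.simple j) < chevE7.nroots := wact_lt goodE7 w7_lt (goodE7.simple_lt hj)
    generalize hm : wact chevE7 w7 (chevE7.simple j) = m at hs hlt ⊢
    have hv : ((val chevE7 x' m : ℤ) : ZMod 7) = ((co chevE7 m 0 + co chevE7 m 3 + co chevE7 m 6 : ℤ) : ZMod 7) := by
      unfold val
      have hrk : chevE7.rank = 7 := rfl
      rw [hrk]
      simp only [Finset.sum_range_succ, Finset.sum_range_zero]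
      push_cast
      have q : ∀ i < 7, ((x' i : ℤ) : ZMod 7) = ((([1, 0, 0, 1, 0, 0, 1] : List ℕ).getD i 0 : ℕ) : ZMod 7) := hX.eq
      rw [q 0 (by norm_num), q 1 (by norm_num), q 2 (by norm_num), q 3 (by norm_num), q 4 (by norm_num), q 5 (by norm_num),
        q 6 (by norm_num)]
      simp
    rw [hv]
    have hdvd : ((7 : ℕ) : ℤ) ∣ (co chevE7 m 0 + co chevE7 m 3 + co chevE7 m 6 - (([0, 0, 0, 1, 0, 1, 0] : List ℤ).getD j 0)) :=
      Int.dvd_of_emod_eq_zero (by exact_mod_cast hs)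
    rw [← ZMod.intCast_zmod_eq_zero_iff_dvd, Int.cast_sub, sub_eq_zero] at hdvd
    rw [hdvd]
    unfold x7
    interval_cases j <;> simp

end Cfsg.Agent.H186
end

-- part: H186/ExcWeyl
section
/-!
# The Weyl group acting on the roots (helper186)
-/

set_option autoImplicit false

namespace Cfsg.Agent.H186

open Cfsg.Lie Cfsg.Agent.ChevalleyStructure Cfsg.Agent.ChevalleyStructure.Elts
  Cfsg.Agent.ChevalleyStructure.RootCombGood Cfsg.Agent.ChevalleyStructure.RootWord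
  Cfsg.Agent.ChevalleyStructure.RootComb Cfsg.Agent.ChevalleyStructure.NPerm Cfsg.Agent.H190 Equiv

universe u

variable {D : ChevalleyDatum}

/-- the permutation is given by a word in the simple reflections -/
def IsW (D : ChevalleyDatum) (π : Perm (Fin D.nroots)) : Prop :=
  ∃ w : List ℕ, (∀ a ∈ w, a < D.rank) ∧ ∀ r, ((π r : Fin D.nroots) : ℕ) = wact D w r

theorem isW_permHom (hD : InList D) {F : Type u} [Field F] (n : ↥(D.monomialSubgroup F)) : IsW D (permHom hD F n) := by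
  have G := good_of_mem hD
  have h : permHom hD F n ∈ (permHom hD F).range := ⟨n, rfl⟩
  rw [range_permHom hD F] at h
  generalize permHom hD F n = π at h
  induction h using Subgroup.closure_induction with
  | mem x hx =>
    obtain ⟨i, rfl⟩ := hx
    refine ⟨[i], by simp, fun r => ?_⟩
    rw [permHom_nG hD i.2 _ (coe_nG hD _ _)]
    rfl
  | one => exact ⟨[], by simp, fun r => rfl⟩
  | mul x y _ _ hx hy =>
    obtain ⟨v, hv, hv'⟩ := hx
    obtain ⟨w, hw, hw'⟩ := hy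
    refine ⟨v ++ w, ?_, fun r => ?_⟩
    · intro a ha
      rcases List.mem_append.1 ha with h | h
      · exact hv a h
      · exact hw a h
    · rw [wact_append, ← hw', ← hv']
      rfl
  | inv x _ hx =>
    obtain ⟨w, hw, hw'⟩ := hx
    refine ⟨w.reverse, fun a ha => hw a (List.mem_reverse.1 ha), fun r => ?_⟩
    have h1 := hw' (x⁻¹ r)
    have h2 : x (x⁻¹ r) = r := Equiv.apply_symm_apply x r
    rw [h2] at h1
    rw [h1, wact_reverse G hw (x⁻¹ r).2]

theorem IsW.car (G : Good D) {π : Perm (Fin D.nroots)} (h : IsW D π) (r s : Fin D.nroots) :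
    car D (π r) (π s) = car D r s := by
  obtain ⟨w, hw, hw'⟩ := h
  rw [hw', hw', car_wact G hw r.2 s.2]

theorem IsW.pow {π : Perm (Fin D.nroots)} (h : IsW D π) (n : ℕ) : IsW D (π ^ n) := by
  induction n with
  | zero => exact ⟨[], by simp, fun r => rfl⟩
  | succ n ih =>
    obtain ⟨v, hv, hv'⟩ := ih
    obtain ⟨w, hw, hw'⟩ := h
    refine ⟨v ++ w, ?_, fun r => ?_⟩
    · intro a ha
      rcases List.mem_append.1 ha with h | h
      · exact hv a h
      · exact hw a h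
    · rw [wact_append, ← hw', ← hv', pow_succ]
      rfl

theorem IsW.lin (G : Good D) {π : Perm (Fin D.nroots)} (h : IsW D π) {u m r : Fin D.nroots} {c : ℤ}
    (hu : ∀ j < D.rank, co D u j = co D m j - c * co D r j) {j : ℕ} (hj : j < D.rank) :
    co D (π u) j = co D (π m) j - c * co D (π r) j := by
  obtain ⟨w, hw, hw'⟩ := h
  rw [hw', hw', hw', co_wact G hw u.2 hj, co_wact G hw m.2 hj, co_wact G hw r.2 hj, Finset.mul_sum,
    ← Finset.sum_sub_distrib]
  refine Finset.sum_congr rfl fun k hk => ?_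
  rw [hu k (Finset.mem_range.1 hk)]
  ring

theorem IsW.neg (G : Good D) {π : Perm (Fin D.nroots)} (h : IsW D π) (r : Fin D.nroots) :
    π (negPerm G r) = negPerm G (π r) := by
  obtain ⟨w, hw, hw'⟩ := h
  apply Fin.ext
  rw [hw', negPerm_apply, negPerm_apply, hw', wact_neg G hw r.2]

theorem ent_perm (hD : InList D) {F : Type u} [Field F] (n : ↥(D.monomialSubgroup F)) {t : GL D.Idx F}
    (ht : t ∈ D.diagonalSubgroup F) (h : (n : GL D.Idx F) * t * (n : GL D.Idx F)⁻¹ = t) (r : Fin D.nroots) :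
    ent t (permHom hD F n r) = ent t r := by
  have h1 := ent_conj hD n ht r
  rwa [h] at h1

/-- the order of the Weyl group -/
theorem card_range_E7 {F : Type u} [Field F] : Nat.card (permHom (D := chevE7) (by simp [InList]) F).range = 2903040 := by
  obtain ⟨φ, h1, h2, -⟩ := Cfsg.Agent.S1039.result (F := F) (chevE7, ⟨7, CoxeterMatrix.E₇⟩) (by simp)
  have hw := Cfsg.Agent.S1093.result (⟨7, CoxeterMatrix.E₇⟩, 2903040) (by simp)
  rw [← Subgroup.index_ker, ker_permHom, ← h2, Subgroup.index_ker, MonoidHom.range_eq_top.2 h1, Subgroup.card_top]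
  exact hw

/-- words taking the first simple root to the others -/
def wordE7 : ℕ → List ℕ
  | 0 => []
  | 1 => [3, 1, 2, 3, 0, 2]
  | 2 => [0, 2]
  | 3 => [2, 3, 0, 2]
  | 4 => [3, 4, 2, 3, 0, 2]
  | 5 => [4, 5, 3, 4, 2, 3, 0, 2]
  | _ => [5, 6, 4, 5, 3, 4, 2, 3, 0, 2]

theorem wordE7_spec : ∀ i < chevE7.rank, (∀ a ∈ wordE7 i, a < chevE7.rank) ∧
    wact chevE7 (wordE7 i) (chevE7.simple 0) = chevE7.simple i := by
  decide +kernel

theorem exists_word0 {r : ℕ} (hr : r < chevE7.nroots) :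
    ∃ w : List ℕ, (∀ a ∈ w, a < chevE7.rank) ∧ wact chevE7 w (chevE7.simple 0) = r := by
  obtain ⟨i, hi, w, hw, h⟩ := exists_word goodE7 hr
  obtain ⟨h1, h2⟩ := wordE7_spec i hi
  refine ⟨w ++ wordE7 i, ?_, by rw [wact_append, h2, h]⟩
  intro a ha
  rcases List.mem_append.1 ha with h' | h'
  · exact hw a h'
  · exact h1 a h'

theorem exists_range_word (hD : InList D) {F : Type u} [Field F] {w : List ℕ} (hw : ∀ a ∈ w, a < D.rank) :
    ∃ g ∈ (permHom hD F).range, ∀ r, ((g r : Fin D.nroots) : ℕ) = wact D w r := by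
  induction w with
  | nil => exact ⟨1, Subgroup.one_mem _, fun r => rfl⟩
  | cons i w ih =>
    obtain ⟨g, hg, h⟩ := ih (fun a ha => hw a (by simp [ha]))
    have hi : i < D.rank := hw i (by simp)
    refine ⟨permHom hD F ⟨nG hD (D.simple i) 1, nG_simple_mem hD F hi⟩ * g, mul_mem ⟨_, rfl⟩ hg, fun r => ?_⟩
    rw [wact_cons, ← h r]
    exact permHom_nG hD hi _ (coe_nG hD _ _) (g r)

/-- an element of order dividing `7` of the Weyl group of `E₇` fixing a root is trivial -/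
theorem fix_seven {F : Type u} [Field F] {π : Perm (Fin chevE7.nroots)}
    (hπ : π ∈ (permHom (D := chevE7) (by simp [InList]) F).range) (h7 : π ^ 7 = 1) {r : Fin chevE7.nroots} (hr : π r = r) :
    π = 1 := by
  have hD : InList chevE7 := by simp [InList]
  set W := (permHom hD F).range with hW
  have hcard : Nat.card W = 2903040 := card_range_E7
  have horb : MulAction.orbit W r = Set.univ := by
    rw [Set.eq_univ_iff_forall]
    -- both are in the orbit of the first simple root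
    let α : Fin chevE7.nroots := ⟨chevE7.simple 0, goodE7.simple_lt (by decide)⟩
    have h2 : ∀ s : Fin chevE7.nroots, ∃ g : W, g • α = s := by
      intro s
      obtain ⟨w, hw, hws⟩ := exists_word0 s.2
      obtain ⟨g, hg, h⟩ := exists_range_word hD (F := F) hw
      exact ⟨⟨g, hg⟩, Fin.ext ((h α).trans hws)⟩
    intro s
    obtain ⟨g, hg⟩ := h2 s
    obtain ⟨g', hg'⟩ := h2 r
    refine ⟨g * g'⁻¹, ?_⟩
    show (g * g'⁻¹) • r = s
    rw [← hg, ← hg', mul_smul, inv_smul_smul]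
  have h3 : Nat.card (MulAction.orbit W r) = 126 := by
    rw [horb, Nat.card_univ, Nat.card_eq_fintype_card, Fintype.card_fin]
    rfl
  have h4 : Nat.card (MulAction.stabilizer W r) = 23040 := by
    have h5 : Nat.card (MulAction.orbit W r) * Nat.card (MulAction.stabilizer W r) = Nat.card W := by
      rw [← Nat.card_congr (MulAction.orbitProdStabilizerEquivGroup W r), Nat.card_prod]
    rw [h3, hcard] at h5
    omega
  have hmem : (⟨π, hπ⟩ : W) ∈ MulAction.stabilizer W r := hr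
  have h5 : orderOf (⟨⟨π, hπ⟩, hmem⟩ : MulAction.stabilizer W r) ∣ 23040 := h4 ▸ orderOf_dvd_natCard _
  rw [Subgroup.orderOf_mk, Subgroup.orderOf_mk] at h5
  have h6 := Nat.dvd_gcd (orderOf_dvd_of_pow_eq_one h7) h5
  have h8 : Nat.gcd 7 23040 = 1 := by norm_num
  rw [h8, Nat.dvd_one, orderOf_eq_one_iff] at h6
  exact h6

end Cfsg.Agent.H186
end
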